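import Mathlib
import Cfsg.Prelude.Def_Solvable
import Cfsg.Agent.PGroup.Normal

/-!
Conjugation invariant partitions of a group.

* `NPart`: a partition given by the map sending an element to its component;
* `NPart.ofSet`: every non-trivial partition has a conjugation invariant refinement;
* `NPart.eq_orderOf`: commuting elements of different components have the same prime order;
* `exists_frobenius_of_fpf`: a normal subgroup without outside centralisers gives a Frobenius group.
-/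

set_option autoImplicit false
set_option maxHeartbeats 400000

namespace CfsgLib.Partition8

/-- A conjugation invariant partition, as the map `x ↦` component of `x`. -/
structure NPart (G : Type*) [Group G] where
  comp : G → Subgroup G
  mem_comp : ∀ x, x ≠ 1 → x ∈ comp x
  comp_eq : ∀ x y, x ≠ 1 → y ∈ comp x → y ≠ 1 → comp y = comp x
  conj_mem : ∀ g x y, x ≠ 1 → y ∈ comp x → g * y * g⁻¹ ∈ comp (g * x * g⁻¹)
  comp_ne_top : ∀ x, x ≠ 1 → comp x ≠ ⊤

variable {G : Type*} [Group G]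

theorem conj_ne_one {g x : G} (hx : x ≠ 1) : g * x * g⁻¹ ≠ 1 := fun h => hx (conj_eq_one_iff.mp h)

/-- The invariant refinement of a partition. -/
noncomputable def NPart.ofSet (S : Set (Subgroup G)) (hS2 : ∃ H ∈ S, ∃ K ∈ S, H ≠ K)
    (hS1 : ∀ H ∈ S, H ≠ ⊥) (hpart : ∀ g : G, g ≠ 1 → ∃! H : Subgroup G, H ∈ S ∧ g ∈ H) :
    NPart G := by
  classical
  let c : G → Subgroup G := fun x => if hx : x ≠ 1 then (hpart x hx).choose else ⊤
  have hc : ∀ x, x ≠ 1 → c x ∈ S ∧ x ∈ c x := fun x hx => by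
    simp only [c, dif_pos hx]
    exact (hpart x hx).choose_spec.1
  have hce : ∀ x y, x ≠ 1 → y ≠ 1 → y ∈ c x → c y = c x := fun x y hx hy h =>
    (hpart y hy).unique (hc y hy) ⟨(hc x hx).1, h⟩
  have hmem : ∀ (x y : G), y ∈ ⨅ h : G, (c (h * x * h⁻¹)).comap (MulAut.conj h).toMonoidHom ↔
      ∀ h : G, h * y * h⁻¹ ∈ c (h * x * h⁻¹) := fun x y => by
    simp [Subgroup.mem_iInf]
  refine ⟨fun x => ⨅ h : G, (c (h * x * h⁻¹)).comap (MulAut.conj h).toMonoidHom, ?_, ?_, ?_, ?_⟩
  · intro x hx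
    exact (hmem x x).mpr fun h => (hc _ (conj_ne_one hx)).2
  · intro x y hx hy hy1
    refine iInf_congr fun h => ?_
    rw [hce _ _ (conj_ne_one hx) (conj_ne_one hy1) ((hmem x y).mp hy h)]
  · intro g x y _ hy
    refine (hmem _ _).mpr fun h => ?_
    have e : ∀ z : G, h * (g * z * g⁻¹) * h⁻¹ = h * g * z * (h * g)⁻¹ := fun z => by group
    rw [e, e]
    exact (hmem x y).mp hy (h * g)
  · intro x hx htop
    have hle : (⨅ h : G, (c (h * x * h⁻¹)).comap (MulAut.conj h).toMonoidHom) ≤ c x := fun y hy => by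
      simpa using (hmem x y).mp hy 1
    have hcx : c x = ⊤ := top_le_iff.mp (htop ▸ hle)
    obtain ⟨H, hH, K, hK, hne⟩ := hS2
    have h1 : ∀ L ∈ S, L = ⊤ := fun L hL => by
      obtain ⟨l, hl, hl1⟩ := (Subgroup.ne_bot_iff_exists_ne_one.mp (hS1 L hL) |>
        fun ⟨l, hl⟩ => (⟨l.1, l.2, fun e => hl (Subtype.ext e)⟩ : ∃ l, l ∈ L ∧ l ≠ (1 : G)))
      exact ((hpart l hl1).unique ⟨hL, hl⟩ ⟨hcx ▸ (hc x hx).1, Subgroup.mem_top l⟩)
    exact hne ((h1 H hH).trans (h1 K hK).symm)

namespace NPart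

variable (P : NPart G)

theorem mem_of_mem {x y : G} (hx : x ≠ 1) (hy : y ∈ P.comp x) (hy1 : y ≠ 1) : x ∈ P.comp y := by
  rw [P.comp_eq x y hx hy hy1]
  exact P.mem_comp x hx

theorem eq_of_mem_both {x y z : G} (hx : x ≠ 1) (hy : y ≠ 1) (hz : z ≠ 1) (h1 : z ∈ P.comp x)
    (h2 : z ∈ P.comp y) : P.comp x = P.comp y :=
  (P.comp_eq x z hx h1 hz).symm.trans (P.comp_eq y z hy h2 hz)

theorem comp_pow {x : G} {n : ℕ} (hn : x ^ n ≠ 1) : P.comp (x ^ n) = P.comp x := by
  have hx : x ≠ 1 := fun h => hn (by rw [h, one_pow])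
  exact P.comp_eq x _ hx (pow_mem (P.mem_comp x hx) n) hn

/-- An element carrying a member of a component into it normalises it. -/
theorem mem_normalizer {g x z : G} (hx : x ≠ 1) (hz : z ∈ P.comp x) (hz1 : z ≠ 1)
    (h : g * z * g⁻¹ ∈ P.comp x) : g ∈ Subgroup.normalizer (P.comp x : Set G) := by
  have e1 := P.comp_eq x z hx hz hz1
  have e2 := P.comp_eq x _ hx h (conj_ne_one hz1)
  rw [Subgroup.mem_normalizer_iff]
  intro y
  constructor
  · intro hy
    have := P.conj_mem g z y hz1 (e1.symm ▸ hy)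
    rwa [e2] at this
  · intro hy
    have := P.conj_mem g⁻¹ (g * z * g⁻¹) (g * y * g⁻¹) (conj_ne_one hz1) (e2.symm ▸ hy)
    have e : ∀ w : G, g⁻¹ * (g * w * g⁻¹) * g⁻¹⁻¹ = w := fun w => by group
    rw [e, e, e1] at this
    exact this

theorem mem_normalizer_of_commute {g x z : G} (hx : x ≠ 1) (hz : z ∈ P.comp x) (hz1 : z ≠ 1)
    (h : Commute g z) : g ∈ Subgroup.normalizer (P.comp x : Set G) :=
  P.mem_normalizer hx hz hz1 (by rw [h.eq, mul_inv_cancel_right]; exact hz)

/-- Commuting elements in different components have the same prime order. -/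
theorem eq_orderOf [Finite G] {x y : G} (hx : x ≠ 1) (hy : y ≠ 1) (hc : Commute x y)
    (hne : y ∉ P.comp x) : (orderOf x).Prime ∧ orderOf y = orderOf x := by
  have key : ∀ a b : G, a ≠ 1 → b ≠ 1 → Commute a b → b ∉ P.comp a → orderOf a ∣ orderOf b := by
    intro a b ha hb hab hn
    by_contra hd
    have han : a ^ orderOf b ≠ 1 := fun e => hd (orderOf_dvd_of_pow_eq_one e)
    have he : (a * b) ^ orderOf b = a ^ orderOf b := by
      rw [hab.mul_pow, pow_orderOf_eq_one, mul_one]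
    have hab1 : a * b ≠ 1 := fun e => han (by rw [← he, e, one_pow])
    have h1 : P.comp (a * b) = P.comp a := by
      rw [← P.comp_pow (he.symm ▸ han : (a * b) ^ orderOf b ≠ 1), he, P.comp_pow han]
    have h2 : a * b ∈ P.comp a := h1 ▸ P.mem_comp _ hab1
    exact hn (by simpa using mul_mem (inv_mem (P.mem_comp a ha)) h2)
  have hne' : x ∉ P.comp y := fun h => hne (P.mem_of_mem hy h hx)
  have heq : orderOf y = orderOf x :=
    Nat.dvd_antisymm (key y x hy hx hc.symm hne') (key x y hx hy hc hne)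
  refine ⟨?_, heq⟩
  by_contra hnp
  have hn1 : orderOf x ≠ 1 := fun e => hx (orderOf_eq_one_iff.mp e)
  obtain ⟨d, hd, hd1, hdn⟩ := Nat.exists_dvd_of_not_prime (n := orderOf x) (by
    have := orderOf_pos x; omega) hnp
  have hxd : x ^ d ≠ 1 := fun e => by
    have h1 := Nat.le_of_dvd (Nat.pos_of_ne_zero (by rintro rfl; exact (orderOf_pos x).ne' (zero_dvd_iff.mp hd)))
      (orderOf_dvd_of_pow_eq_one e)
    exact hdn (le_antisymm (Nat.le_of_dvd (orderOf_pos x) hd) h1)
  have hyn : y ∉ P.comp (x ^ d) := P.comp_pow hxd ▸ hne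
  have h1 : orderOf (x ^ d) = orderOf x :=
    (Nat.dvd_antisymm (key y _ hy hxd (hc.symm.pow_right d) (fun h => hyn (P.mem_of_mem hy h hxd)))
      (key _ y hxd hy (hc.pow_left d) hyn)).symm.trans heq
  rw [orderOf_pow, Nat.gcd_eq_right hd] at h1
  exact hd1 (Nat.eq_one_of_dvd_one (by
    have h2 := Nat.div_mul_cancel hd
    rw [h1] at h2
    have : d = 1 := Nat.eq_of_mul_eq_mul_left (orderOf_pos x) (h2.trans (mul_one _).symm)
    simp [this]))

end NPart

/-- A normal subgroup with no outside centralisers is a Frobenius kernel. -/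
theorem exists_frobenius_of_fpf [Finite G] (K : Subgroup G) [hKn : K.Normal] (hK1 : K ≠ ⊥) (hK2 : K ≠ ⊤)
    (hfpf : ∀ g : G, g ∉ K → ∀ k ∈ K, Commute g k → k = 1) :
    ∃ H : Subgroup G, Cfsg.IsFrobeniusComplement H := by
  classical
  have hcop : (Nat.card K).Coprime K.index := by
    refine Nat.coprime_of_dvd fun r hr hrK hrI => ?_
    haveI := Fact.mk hr
    obtain ⟨R⟩ : Nonempty (Sylow r G) := inferInstance
    set N : Subgroup (R : Subgroup G) := K.subgroupOf R with hN
    haveI : N.Normal := hKn.subgroupOf _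
    have hRK : ¬ (R : Subgroup G) ≤ K := fun h =>
      R.not_dvd_index (hrI.trans (Subgroup.index_dvd_of_le h))
    have hN1 : N ≠ ⊥ := by
      intro hb
      obtain ⟨k, hk⟩ := exists_prime_orderOf_dvd_card' r hrK
      have hkG : orderOf (k : G) = r := by rw [Subgroup.orderOf_coe, hk]
      have hkp : IsPGroup r (Subgroup.zpowers (k : G)) :=
        IsPGroup.of_card (n := 1) (by rw [Nat.card_zpowers, hkG, pow_one])
      obtain ⟨Q, hQ⟩ := hkp.exists_le_sylow
      obtain ⟨g, hg⟩ := MulAction.exists_smul_eq G Q R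
      have hmem : g * (k : G) * g⁻¹ ∈ (R : Subgroup G) := by
        rw [← hg]
        exact ⟨_, hQ (Subgroup.mem_zpowers _), rfl⟩
      have h1 : (⟨_, hmem⟩ : (R : Subgroup G)) ∈ N := Subgroup.mem_subgroupOf.mpr (hKn.conj_mem _ k.2 g)
      rw [hb, Subgroup.mem_bot] at h1
      have h2 : (k : G) = 1 := conj_eq_one_iff.mp (congrArg Subtype.val h1)
      rw [h2, orderOf_one] at hkG
      exact hr.ne_one hkG.symm
    obtain ⟨z, hz, hz1⟩ := (Subgroup.bot_or_exists_ne_one _).resolve_left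
      (CfsgLib.PGroup.inf_center_ne_bot R.2 N hN1)
    obtain ⟨g, hgR, hgK⟩ := SetLike.not_le_iff_exists.mp hRK
    have hzN := (Subgroup.mem_inf.mp hz).1
    have hzc := Subgroup.mem_center_iff.mp (Subgroup.mem_inf.mp hz).2 ⟨g, hgR⟩
    exact hz1 (Subtype.ext (hfpf g hgK z (Subgroup.mem_subgroupOf.mp hzN) (congrArg Subtype.val hzc)))
  obtain ⟨H, hH⟩ := Subgroup.exists_right_complement'_of_coprime hcop
  refine ⟨H, ?_, ?_, ?_⟩
  · intro h
    rw [h, Subgroup.isComplement'_bot_right] at hH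
    exact hK2 hH
  · intro h
    rw [h, Subgroup.isComplement'_top_right] at hH
    exact hK1 hH
  · intro g hg
    rw [eq_bot_iff]
    rintro a ⟨ha, hag⟩
    rw [Subgroup.mem_bot]
    obtain ⟨⟨⟨k, hk⟩, ⟨h, hh⟩⟩, rfl⟩ := hH.surjective g
    have hkH : k ∉ H := fun hkH => hg (mul_mem hkH hh)
    obtain ⟨b, hb, hba⟩ : ∃ b ∈ H, k * b * k⁻¹ = a := by
      obtain ⟨b, hb, hba⟩ := hag
      refine ⟨h * b * h⁻¹, mul_mem (mul_mem hh hb) (inv_mem hh), ?_⟩
      rw [← hba]
      simp only [MulDistribMulAction.toMonoidEnd_apply, MulDistribMulAction.toMonoidHom_apply,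
        MulAut.smul_def, MulAut.conj_apply]
      group
    have hab : a * b⁻¹ ∈ K := by
      rw [← hba, show k * b * k⁻¹ * b⁻¹ = k * (b * k⁻¹ * b⁻¹) by group]
      exact mul_mem hk (hKn.conj_mem _ (inv_mem hk) b)
    have hab1 : a * b⁻¹ = 1 := by
      have := hH.disjoint
      rw [Subgroup.disjoint_def] at this
      exact this hab (mul_mem ha (inv_mem hb))
    have heq : a = b := mul_inv_eq_one.mp hab1
    subst heq
    by_contra ha1
    have hcom : Commute a k := by
      have h1 := mul_inv_eq_iff_eq_mul.mp hba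
      exact h1.symm
    have haK : a ∉ K := fun h' => ha1 (by
      have := hH.disjoint
      rw [Subgroup.disjoint_def] at this
      exact this h' ha)
    exact hkH ((hfpf a haK k hk hcom) ▸ one_mem H)

end CfsgLib.Partition8
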