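import Cfsg.Agent.Partition8.Semi
import Cfsg.Agent.FrobSystem.Classify
import Cfsg.Agent.RankOne.Classify.GlueBender
import Cfsg.Agent.RankOne.Classify.AllPPlusProof
import Cfsg.Agent.NilProd.Setup

/-!
Partitions without solvable normal subgroup in which a central involution has its centraliser
inside its component, or all involution centralisers are elementary abelian: `SL₂(2ⁿ)` and Suzuki.
-/

set_option autoImplicit false
set_option maxHeartbeats 800000

namespace CfsgLib.Partition8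

/-- `G` is a group `PSL₂(q)` with `q ≥ 4`. -/
def IsPSLTwo (G : Type*) [Group G] : Prop :=
  ∃ (F : Type) (_ : Field F) (_ : Fintype F), 4 ≤ Fintype.card F ∧
    Nonempty (G ≃* Matrix.ProjectiveSpecialLinearGroup (Fin 2) F)

variable {G : Type*} [Group G] [Finite G] {P : NPart G}

theorem of_sys {M F : Subgroup G} (hsys : CfsgLib.FrobSystem.Sys M F) {T : Sylow 2 G}
    (hT : (T : Subgroup G) ≤ M) : IsPSLTwo G ∨ Cfsg.Lie.IsoSuzuki G := by
  rcases hsys.classify hT with ⟨K, iK, iK', ⟨n, hn, hK⟩, ⟨e⟩⟩ | h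
  · letI := iK
    letI := iK'
    haveI : CharP K 2 := charP_of_card_eq_prime_pow (f := n) hK
    exact Or.inl ⟨K, iK, iK', hK ▸ le_trans (by norm_num) (Nat.pow_le_pow_right two_pos hn),
      ⟨e.trans (CfsgLib.CAGroups.mulEquivPslOfSl2 K)⟩⟩
  · exact Or.inr h

theorem pow_mem_two {x : G} (h : ¬ Odd (orderOf x)) : orderOf (x ^ (orderOf x / 2)) = 2 :=
  orderOf_pow_orderOf_div (orderOf_pos x).ne' (even_iff_two_dvd.mp (Nat.not_odd_iff_even.mp h))

namespace Semi

variable (hS : Semi P)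
include hS

/-- A central involution whose centraliser lies in its component. -/
theorem classify_inside (T : Sylow 2 G) {t : G} (ht : orderOf t = 2)
    (htc : ∀ s ∈ (T : Subgroup G), Commute s t) (hC : ∀ c, Commute c t → c ∈ P.comp t) :
    IsPSLTwo G ∨ Cfsg.Lie.IsoSuzuki G := by
  haveI : Fact (Nat.Prime 2) := ⟨Nat.prime_two⟩
  have ht1 := ne_one_of_two ht
  set X := P.comp t with hX
  have hXn : Group.IsNilpotent X := hS.isNilpotent ht1
  have hTX : (T : Subgroup G) ≤ X := fun s hs => hC s (htc s hs)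
  have hTn : ((T : Subgroup G).subgroupOf X).Normal :=
    (List.TFAE.out (Group.isNilpotent_of_finite_tfae (G := X)) 0 3 rfl rfl).mp hXn 2 inferInstance
      (T.subtype hTX)
  have hXT : X ≤ Subgroup.normalizer ((T : Subgroup G) : Set G) :=
    (Subgroup.normal_subgroupOf_iff_le_normalizer hTX).mp hTn
  have hmemT : ∀ x : G, (∃ k, orderOf x = 2 ^ k) → x ∈ Subgroup.normalizer ((T : Subgroup G) : Set G) →
      x ∈ (T : Subgroup G) := by
    rintro x ⟨k, hk⟩ hxN
    have hp : IsPGroup 2 (Subgroup.zpowers x) := IsPGroup.of_card (n := k) (by rw [Nat.card_zpowers, hk])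
    have h1 := hp.to_sup_of_normal_right' T.isPGroup' (Subgroup.zpowers_le.mpr hxN)
    exact (T.3 h1 le_sup_right) ▸ Subgroup.mem_sup_left (Subgroup.mem_zpowers x)
  have hNT : Subgroup.normalizer (X : Set G) ≤ Subgroup.normalizer ((T : Subgroup G) : Set G) := by
    intro g hg
    have key : ∀ n ∈ Subgroup.normalizer (X : Set G), ∀ s ∈ (T : Subgroup G), n * s * n⁻¹ ∈ (T : Subgroup G) := by
      intro n hn s hs
      refine hmemT _ ?_ (hXT ((Subgroup.mem_normalizer_iff.mp hn s).mp (hTX hs)))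
      rw [CfsgLib.StronglyEmbedded.orderOf_conj]
      obtain ⟨k, hk⟩ := IsPGroup.iff_orderOf.mp T.isPGroup' ⟨s, hs⟩
      exact ⟨k, by rwa [Subgroup.orderOf_mk] at hk⟩
    rw [Subgroup.mem_normalizer_iff]
    intro s
    refine ⟨key g hg s, fun h => ?_⟩
    simpa [mul_assoc] using key g⁻¹ (inv_mem hg) _ h
  have hinvX : ∀ u ∈ Subgroup.normalizer (X : Set G), orderOf u = 2 → u ∈ (T : Subgroup G) := fun u hu hu2 =>
    hmemT u ⟨1, by rw [hu2, pow_one]⟩ (hNT hu)
  have hcent : ∀ u ∈ X, orderOf u = 2 → ∀ c, Commute c u → c ∈ X := by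
    intro u hu hu2 c hc
    have hcomp : P.comp u = X := P.comp_eq t u ht1 hu (ne_one_of_two hu2)
    obtain ⟨hcN, hc2⟩ := centralizer_facts (P := P) hu2 hc
    rw [hcomp] at hcN hc2
    by_contra hcX
    exact hcX (hTX (hinvX c hcN (hc2 hcX)))
  have hmemN : ∀ g x : G, x ∈ X → x ≠ 1 → g * x * g⁻¹ ∈ X → g ∈ Subgroup.normalizer (X : Set G) :=
    fun g x hx hx1 h => P.mem_normalizer ht1 hx hx1 h
  set H := Subgroup.normalizer (X : Set G) with hH
  have htH : t ∈ H := Subgroup.le_normalizer (P.mem_comp t ht1)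
  have hSE : Cfsg.IsStronglyEmbedded H := CfsgLib.StronglyEmbedded.intro_of_conj_mem
    (hS.normalizer_ne_top ht1)
    (CfsgLib.StronglyEmbedded.even_card_of_mem ht htH) fun u g hu huH hgu =>
    hmemN g u (hTX (hinvX u huH hu)) (ne_one_of_two hu)
      (hTX (hinvX _ hgu (by rw [CfsgLib.StronglyEmbedded.orderOf_conj, hu])))
  have hcore : H.normalCore = ⊥ := hS.eq_bot_of_odd inferInstance
    (CfsgLib.StronglyEmbedded.odd_card_of_normal_le hSE (Subgroup.normalCore_le H))
  -- the odd part of `X` is trivial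
  have hodd : ∀ x ∈ X, Odd (orderOf x) → x = 1 := by
    intro x hx hxo
    have h2 : CfsgLib.StrongEmb.RankTwo G := by
      by_contra h2
      have hz := CfsgLib.ZStar.inZStar_of_isolated ht (CfsgLib.StrongEmb.isIsolated_of_not_rankTwo h2 ht)
      have hn : (⊤ : Subgroup G) ≤ H := fun g _ => by
        refine hmemN g t (P.mem_comp t ht1) ht1 ?_
        have h1 := hz g
        rw [hS.pPrimeCore_eq_bot, Subgroup.mem_bot, mul_inv_eq_one] at h1
        rw [h1]
        exact P.mem_comp t ht1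
      exact hS.normalizer_ne_top ht1 (top_le_iff.mp hn)
    obtain ⟨Q, hQ, hQ2, -⟩ := CfsgLib.RankOneClassify.allPPlus G H hSE h2 hcore
    obtain ⟨T', hT'⟩ := CfsgLib.RankOneClassify.exists_sylow_eq_regular hSE hQ hQ2
    have hHQ : H ≤ Subgroup.normalizer (Q : Set G) :=
      (Subgroup.normal_subgroupOf_iff_le_normalizer hQ.1).mp hQ.2.1
    have hQT : ∀ q ∈ Q, q ∈ (T : Subgroup G) := fun q hq => by
      refine hmemT q ?_ (hNT (hQ.1 hq))
      obtain ⟨k, hk⟩ := IsPGroup.iff_orderOf.mp hQ2 ⟨q, hq⟩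
      exact ⟨k, by rwa [Subgroup.orderOf_mk] at hk⟩
    have hcomm : ∀ q ∈ Q, Commute x q := fun q hq => by
      obtain ⟨k, hk⟩ := CfsgLib.NilProd.orderOf_pow_of_mem hQ2 hq
      refine CfsgLib.NilProd.commute_of_coprime hXn hx (hTX (hQT q hq)) ?_
      rw [hk]
      exact (Nat.coprime_two_right.mpr hxo).pow_right k
    have hxH : x ∈ H := Subgroup.le_normalizer hx
    have hfix : ∀ g, g⁻¹ * x⁻¹ * g ∈ H := by
      intro g
      by_cases hg : g ∈ H
      · exact mul_mem (mul_mem (inv_mem hg) (inv_mem hxH)) hg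
      have hxg : x * g ∉ H := fun h => hg (by simpa using mul_mem (inv_mem hxH) h)
      obtain ⟨q, hq, hd⟩ := hQ.2.2.1 g (x * g) hg hxg
      have e : (x * g)⁻¹ * (q * g) = g⁻¹ * (x⁻¹ * q) * g := by group
      rw [e] at hd
      have hpow : g⁻¹ * q ^ orderOf x * g ∈ H := by
        have h1 := pow_mem hd (orderOf x)
        rw [show g⁻¹ * (x⁻¹ * q) * g = g⁻¹ * (x⁻¹ * q) * g⁻¹⁻¹ by rw [inv_inv], conj_pow,
          ((hcomm q hq).inv_left).mul_pow, inv_pow, pow_orderOf_eq_one, inv_one, one_mul, inv_inv] at h1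
        exact h1
      have hq1 : q ^ orderOf x = 1 := hQ.2.2.2 g hg _ (pow_mem hq _) (by rwa [← mul_assoc])
      obtain ⟨k, hk⟩ := CfsgLib.NilProd.orderOf_pow_of_mem hQ2 hq
      have hq0 : q = 1 := orderOf_eq_one_iff.mp (Nat.eq_one_of_dvd_coprimes
        ((Nat.coprime_two_right.mpr hxo).pow_right k) (orderOf_dvd_of_pow_eq_one hq1) (dvd_of_eq hk))
      rw [hq0, mul_one] at hd
      exact hd
    have hmem : x⁻¹ ∈ H.normalCore := fun b => by simpa using hfix b⁻¹
    rw [hcore, Subgroup.mem_bot, inv_eq_one] at hmem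
    exact hmem
  have hX2 : ∀ x ∈ X, x ≠ 1 → ¬ Odd (orderOf x) := fun x hx hx1 h => hx1 (hodd x hx h)
  have hsys : CfsgLib.FrobSystem.Sys H X := by
    refine ⟨Subgroup.le_normalizer, le_rfl, fun a ha haX x hx hc => ?_, fun g hg => ?_,
      P.comp_ne_bot ht1, hS.normalizer_ne_top ht1, fun K hK => Cfsg.Agent.S0205.result hK, hS.rad⟩
    · by_contra hx1
      exact haX (hcent _ (pow_mem hx _) (pow_mem_two (hX2 x hx hx1)) a
        ((show Commute x a from hc).symm.pow_right _))
    · rw [Subgroup.eq_bot_iff_forall]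
      rintro z ⟨hz, y, hy, rfl⟩
      by_contra hz1
      simp only [MulDistribMulAction.toMonoidEnd_apply, MulDistribMulAction.toMonoidHom_apply,
        MulAut.smul_def, MulAut.conj_apply] at hz hz1
      exact hg (hmemN g y hy (fun e => hz1 (by rw [e]; group)) hz)
  exact of_sys hsys (hTX.trans Subgroup.le_normalizer)

/-- All central involutions of a Sylow subgroup have elementary abelian centralisers. -/
theorem classify_elementary (T : Sylow 2 G) (hT : (T : Subgroup G) ≠ ⊥)
    (h : ∀ u ∈ (T : Subgroup G), orderOf u = 2 → (∀ s ∈ (T : Subgroup G), Commute s u) →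
      ∀ c, Commute c u → c * c = 1) :
    IsPSLTwo G ∨ Cfsg.Lie.IsoSuzuki G := by
  haveI : Fact (Nat.Prime 2) := ⟨Nat.prime_two⟩
  haveI : Nontrivial (T : Subgroup G) := (Subgroup.nontrivial_iff_ne_bot _).mpr hT
  haveI := T.isPGroup'.center_nontrivial
  obtain ⟨z, hz⟩ := exists_ne (1 : Subgroup.center (T : Subgroup G))
  have hz1 : ((z : (T : Subgroup G)) : G) ≠ 1 := fun e => hz (Subtype.ext (Subtype.ext e))
  obtain ⟨k, hk⟩ := CfsgLib.NilProd.orderOf_pow_of_mem T.isPGroup' (z : (T : Subgroup G)).2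
  set w := ((z : (T : Subgroup G)) : G) with hw
  have hodd : ¬ Odd (orderOf w) := by
    rcases k with _ | k
    · exact absurd (orderOf_eq_one_iff.mp hk) hz1
    · rw [hk, Nat.not_odd_iff_even]
      exact (Nat.even_pow.mpr ⟨even_two, Nat.succ_ne_zero k⟩)
  have huC : ∀ s ∈ (T : Subgroup G), Commute s (w ^ (orderOf w / 2)) := fun s hs =>
    Commute.pow_right (congrArg Subtype.val (Subgroup.mem_center_iff.mp z.2 ⟨s, hs⟩)) _
  have hu := pow_mem_two hodd
  have huT : w ^ (orderOf w / 2) ∈ (T : Subgroup G) := pow_mem (z : (T : Subgroup G)).2 _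
  have hsq : ∀ s ∈ (T : Subgroup G), s * s = 1 := fun s hs => h _ huT hu huC s (huC s hs)
  have hab : ∀ s ∈ (T : Subgroup G), ∀ s' ∈ (T : Subgroup G), Commute s s' := fun s hs s' hs' => by
    calc s * s' = (s * s')⁻¹ := (inv_eq_of_mul_eq_one_right (hsq _ (mul_mem hs hs'))).symm
      _ = s' * s := by
        rw [mul_inv_rev, inv_eq_of_mul_eq_one_right (hsq s hs), inv_eq_of_mul_eq_one_right (hsq s' hs')]
  have hcent : ∀ x ∈ (T : Subgroup G), x ≠ 1 → ∀ c, Commute c x → c ∈ (T : Subgroup G) := by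
    intro x hx hx1 c hc
    have hx2 : orderOf x = 2 := orderOf_eq_prime (by rw [pow_two]; exact hsq x hx) hx1
    have hC := h x hx hx2 (fun s hs => hab s hs x hx)
    have hp : IsPGroup 2 (Subgroup.centralizer ({x} : Set G)) := fun d =>
      ⟨1, Subtype.ext (by
        rw [SubgroupClass.coe_pow, pow_one, pow_two]
        exact hC d (Subgroup.mem_centralizer_singleton_iff.mp d.2))⟩
    have hle : (T : Subgroup G) ≤ Subgroup.centralizer ({x} : Set G) := fun s hs =>
      Subgroup.mem_centralizer_singleton_iff.mpr (hab s hs x hx).eq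
    rw [← T.3 hp hle]
    exact Subgroup.mem_centralizer_singleton_iff.mpr hc.eq
  have hsys : CfsgLib.FrobSystem.Sys (Subgroup.normalizer ((T : Subgroup G) : Set G)) (T : Subgroup G) := by
    refine ⟨Subgroup.le_normalizer, le_rfl, fun a _ haT x hx hc => ?_, fun g hg => ?_, hT,
      fun e => hT (hS.rad _ (Subgroup.normalizer_eq_top_iff.mp e) ?_),
      fun K hK => Cfsg.Agent.S0205.result hK, hS.rad⟩
    · by_contra hx1
      exact haT (hcent x hx hx1 a hc.symm)
    · rw [Subgroup.eq_bot_iff_forall]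
      rintro z ⟨hz, y, hy, rfl⟩
      by_contra hz1
      simp only [MulDistribMulAction.toMonoidEnd_apply, MulDistribMulAction.toMonoidHom_apply,
        MulAut.smul_def, MulAut.conj_apply] at hz hz1
      refine hg ?_
      have hle : ∀ s ∈ (T : Subgroup G), g * s * g⁻¹ ∈ (T : Subgroup G) := fun s hs =>
        hcent _ hz hz1 _ ((hab s hs y hy).map (MulAut.conj g).toMonoidHom)
      exact Subgroup.mem_normalizer_fintype hle
    · haveI := T.isPGroup'.isNilpotent
      infer_instance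
  exact of_sys hsys Subgroup.le_normalizer

end Semi

end CfsgLib.Partition8
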