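import Cfsg.Agent.Partition8.Dihedral
import Cfsg.Agent.Partition8.SemiTwo
import Cfsg.Agent.AutPSL.Outer

/-!
Recognition of `PSL₂(q)` and `PGL₂(q)` in the dihedral case of a partition: no field automorphism
can occur.
-/

set_option autoImplicit false
set_option maxHeartbeats 1600000

namespace CfsgLib.Partition8

/-- `G` is a group `PGL₂(q)`, `q ≥ 5` odd. -/
def IsPGLTwo (G : Type*) [Group G] : Prop :=
  ∃ (F : Type) (_ : Field F) (_ : Fintype F), 5 ≤ Fintype.card F ∧ Odd (Fintype.card F) ∧
    Nonempty (G ≃* (GL (Fin 2) F ⧸ Subgroup.center (GL (Fin 2) F)))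

section Matrices

variable {F : Type*} [Field F]

local notation "SL2" => Matrix.SpecialLinearGroup (Fin 2) F
local notation "PSL2" => Matrix.ProjectiveSpecialLinearGroup (Fin 2) F

/-- Upper unitriangular matrices. -/
def upperU (c : F) : SL2 := ⟨!![1, c; 0, 1], by simp [Matrix.det_fin_two]⟩

/-- Lower unitriangular matrices. -/
def lowerU (c : F) : SL2 := ⟨!![1, 0; c, 1], by simp [Matrix.det_fin_two]⟩

/-- Diagonal matrices. -/
def torU (r : Fˣ) : SL2 := ⟨!![(r : F), 0; 0, ((r⁻¹ : Fˣ) : F)], by simp [Matrix.det_fin_two]⟩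

/-- Conjugation by `diag (d, 1)` after the field automorphism `σ`. -/
def twist (d : Fˣ) (σ : RingAut F) (A : SL2) : SL2 :=
  ⟨!![σ (A.1 0 0), (d : F) * σ (A.1 0 1); ((d⁻¹ : Fˣ) : F) * σ (A.1 1 0), σ (A.1 1 1)], by
    have h := congrArg σ A.2
    rw [Matrix.det_fin_two, map_one, map_sub, map_mul, map_mul] at h
    rw [Matrix.det_fin_two_of]
    have hd : (d : F) * ((d⁻¹ : Fˣ) : F) = 1 := d.mul_inv
    linear_combination h - (σ (A.1 0 1) * σ (A.1 1 0)) * hd⟩

@[simp] theorem upperU_val (c : F) :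
    (upperU c : Matrix (Fin 2) (Fin 2) F) = !![1, c; 0, 1] := rfl

@[simp] theorem lowerU_val (c : F) :
    (lowerU c : Matrix (Fin 2) (Fin 2) F) = !![1, 0; c, 1] := rfl

@[simp] theorem torU_val (r : Fˣ) :
    (torU r : Matrix (Fin 2) (Fin 2) F) = !![(r : F), 0; 0, ((r⁻¹ : Fˣ) : F)] := rfl

@[simp] theorem twist_val (d : Fˣ) (σ : RingAut F) (A : SL2) :
    (twist d σ A : Matrix (Fin 2) (Fin 2) F) =
      !![σ (A.1 0 0), (d : F) * σ (A.1 0 1); ((d⁻¹ : Fˣ) : F) * σ (A.1 1 0), σ (A.1 1 1)] := rfl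

theorem twist_twist (d e : Fˣ) (σ τ : RingAut F) (A : SL2) :
    twist d σ (twist e τ A) = twist (d * Units.map (σ : F →* F) e) (σ * τ) A := by
  refine Subtype.ext ?_
  show !![σ (τ (A.1 0 0)), (d : F) * σ ((e : F) * τ (A.1 0 1));
    ((d⁻¹ : Fˣ) : F) * σ (((e⁻¹ : Fˣ) : F) * τ (A.1 1 0)), σ (τ (A.1 1 1))] = _
  ext i j
  fin_cases i <;> fin_cases j <;> simp [twist_val, mul_assoc, mul_comm, mul_left_comm]

theorem twist_one_one (A : SL2) : twist (1 : Fˣ) (1 : RingAut F) A = A := by
  refine Subtype.ext ?_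
  ext i j
  fin_cases i <;> fin_cases j <;> simp [twist_val]

theorem conj_firstDiag (d : Fˣ) (σ : RingAut F) (A : SL2) :
    (CfsgLib.AutPSL.conjHom (CfsgLib.AutPSL.firstDiag (le_refl 2) d) *
      CfsgLib.AutPSL.fieldHom σ : MulAut PSL2) (QuotientGroup.mk A) =
      QuotientGroup.mk (twist d σ A) := by
  refine congrArg QuotientGroup.mk (Subtype.ext ?_)
  show (Matrix.diagonal fun i => (((Function.update (1 : Fin 2 → Fˣ) _ d) i : Fˣ) : F)) *
    A.1.map (σ : F →+* F) *
    (Matrix.diagonal fun i => (((Function.update (1 : Fin 2 → Fˣ) _ d) i)⁻¹ : Fˣ).val) = _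
  ext i j
  have h0 : CfsgLib.AutPSL.idx0 (le_refl 2) = (0 : Fin 2) := rfl
  rw [h0]
  have hd : (d : F) * σ (A.1 0 0) * (d : F)⁻¹ = σ (A.1 0 0) := by
    field_simp
  fin_cases i <;> fin_cases j <;>
    simp [twist_val, Matrix.mul_diagonal, Matrix.diagonal_mul, hd, mul_comm]

theorem mk_eq_cases {A B : SL2} (h : (QuotientGroup.mk A : PSL2) = QuotientGroup.mk B) :
    A = B ∨ A = -B := by
  rw [QuotientGroup.eq] at h
  rcases CfsgLib.SL2.mem_center_iff'.1 h with e | e
  · exact Or.inl (inv_mul_eq_one.mp e)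
  · right
    have : B = A * (A⁻¹ * B) := by rw [mul_inv_cancel_left]
    rw [this, e]
    simp

theorem mk_torU_eq {r s : Fˣ} (h : (QuotientGroup.mk (torU r) : PSL2) = QuotientGroup.mk (torU s)) :
    (r : F) = s ∨ (r : F) = -s := by
  rcases mk_eq_cases h with e | e
  · exact Or.inl (by simpa [Matrix.SpecialLinearGroup.coe_neg, Matrix.SpecialLinearGroup.coe_mul, Matrix.SpecialLinearGroup.coe_one, Matrix.SpecialLinearGroup.coe_inv, torU_val] using congrArg (fun M : SL2 => M.1 0 0) e)
  · exact Or.inr (by simpa [Matrix.SpecialLinearGroup.coe_neg, Matrix.SpecialLinearGroup.coe_mul, Matrix.SpecialLinearGroup.coe_one, Matrix.SpecialLinearGroup.coe_inv, torU_val] using congrArg (fun M : SL2 => M.1 0 0) e)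

theorem twist_torU (d : Fˣ) (σ : RingAut F) (r : Fˣ) :
    twist d σ (torU r) = torU (Units.map (σ : F →* F) r) := by
  refine Subtype.ext ?_
  ext i j
  fin_cases i <;> fin_cases j <;> simp [twist_val, torU_val]

end Matrices

section Field

variable {F : Type*} [Field F] [Fintype F]

/-- A norm-one element for an involutory automorphism is a square. -/
theorem isSquare_of_norm_one {σ : RingAut F} (hσ : σ * σ = 1) (hσ1 : σ ≠ 1) {d : F}
    (hd : d * σ d = 1) : IsSquare d := by
  have hss : ∀ x, σ (σ x) = x := fun x => by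
    rw [← RingAut.mul_apply, hσ]; rfl
  obtain ⟨c, hc⟩ : ∃ c, c + d * σ c ≠ 0 := by
    by_contra hcon
    push Not at hcon
    have hd1 : d = -1 := by
      have := hcon 1
      rw [map_one, mul_one] at this
      linear_combination this
    refine hσ1 (RingEquiv.ext fun c => ?_)
    have := hcon c
    rw [hd1] at this
    show σ c = c
    linear_combination -this
  set w := c + d * σ c with hw
  have hfix : d * σ w = w := by
    rw [hw, map_add, map_mul, hss]
    linear_combination c * hd
  have hw' : σ w ≠ 0 := fun e => hc (by rw [← hfix, e, mul_zero])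
  have hde : d = w * (σ w)⁻¹ := by rw [eq_mul_inv_iff_mul_eq₀ hw', hfix]
  rw [hde]
  by_cases hsq : IsSquare w
  · exact hsq.mul (hsq.map σ).inv
  · have h2 : ¬ IsSquare (σ w)⁻¹ := fun h => hsq (by
      have := (h.inv).map σ
      rwa [inv_inv, hss] at this)
    classical
    have hw0 : w ≠ 0 := fun e => hsq (e ▸ IsSquare.zero)
    have hchar : ringChar F ≠ 2 := fun h => hsq (FiniteField.isSquare_of_char_two h w)
    rw [← quadraticChar_one_iff_isSquare (mul_ne_zero hw0 (inv_ne_zero hw')), map_mul,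
      quadraticChar_neg_one_iff_not_isSquare.mpr hsq, quadraticChar_neg_one_iff_not_isSquare.mpr h2]
    norm_num

/-- With an involutory automorphism the order is a square, so `-1` is a square and `q ≥ 9`. -/
theorem facts_of_involutory {σ : RingAut F} (hσ : σ * σ = 1) (hσ1 : σ ≠ 1)
    (hodd : Odd (Fintype.card F)) : (∃ i : Fˣ, (i : F) * i = -1) ∧ 9 ≤ Fintype.card F := by
  obtain ⟨p, hpc⟩ := CharP.exists F
  haveI := hpc
  obtain ⟨f, hp, hf⟩ := FiniteField.card F p
  haveI := Fact.mk hp
  obtain ⟨e⟩ := CfsgLib.AutPSL.autField_equiv (F := F) f.pos hf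
  have h2 : orderOf (e σ) = 2 := by
    rw [MulEquiv.orderOf_eq]
    exact orderOf_eq_prime (by rw [pow_two, hσ]) hσ1
  have h2f : 2 ∣ (f : ℕ) := by
    have h := orderOf_dvd_natCard (e σ)
    rwa [h2, Nat.card_congr Multiplicative.toAdd, Nat.card_zmod] at h
  obtain ⟨k, hk⟩ := h2f
  have hq : Fintype.card F = (p ^ k) * (p ^ k) := by rw [hf, hk, two_mul, pow_add]
  rw [hq] at hodd
  have hpk : Odd (p ^ k) := (Nat.odd_mul.mp hodd).1
  have hk1 : 1 < p ^ k := Nat.one_lt_pow (by have := f.pos; omega) hp.one_lt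
  have h3 : 3 ≤ p ^ k := by obtain ⟨m, hm⟩ := hpk; omega
  refine ⟨?_, hq ▸ Nat.mul_le_mul h3 h3⟩
  have hsq : IsSquare (-1 : F) := by
    rw [FiniteField.isSquare_neg_one_iff, hq]
    obtain ⟨m, hm⟩ := hpk
    rw [hm, show (2 * m + 1) * (2 * m + 1) = 4 * (m * m + m) + 1 by ring]
    omega
  obtain ⟨i, hi⟩ := hsq
  have hi0 : i ≠ 0 := fun e => by rw [e, mul_zero] at hi; exact neg_ne_zero.mpr one_ne_zero hi
  exact ⟨Units.mk0 i hi0, hi.symm⟩

theorem two_ne_zero_of_odd (hodd : Odd (Fintype.card F)) : (2 : F) ≠ 0 :=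
  Ring.two_ne_zero (fun h => by
    have := FiniteField.even_card_iff_char_two.mp h
    exact Nat.not_even_iff_odd.mpr hodd (Nat.even_iff.mpr this))

/-- An involutory automorphism moves some square. -/
theorem exists_moved {σ : RingAut F} (hσ : σ * σ = 1) (hσ1 : σ ≠ 1) (hodd : Odd (Fintype.card F))
    (h : ∀ r : Fˣ, σ (r : F) = r ∨ σ (r : F) = -r ∨ (r : F) ^ 4 = 1) : False := by
  obtain ⟨-, h9⟩ := facts_of_involutory hσ hσ1 hodd
  obtain ⟨r, hr⟩ := IsCyclic.exists_ofOrder_eq_natCard (α := Fˣ)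
  rw [Nat.card_units, Nat.card_eq_fintype_card] at hr
  have hfix : σ ((r : F) * r) = r * r := by
    rcases h r with e | e | e
    · rw [map_mul, e]
    · rw [map_mul, e]; ring
    · exfalso
      have h4 : orderOf r ∣ 4 := orderOf_dvd_of_pow_eq_one (Units.ext (by push_cast; exact e))
      have := Nat.le_of_dvd (by norm_num) h4
      omega
  have hsq : ∀ x : F, σ (x * x) = x * x := by
    intro x
    by_cases hx : x = 0
    · simp [hx]
    obtain ⟨n, hn⟩ : ∃ n : ℕ, r ^ n = Units.mk0 x hx := by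
      have : Units.mk0 x hx ∈ Submonoid.powers r := by
        rw [mem_powers_iff_mem_zpowers]
        have htop : Subgroup.zpowers r = ⊤ := Subgroup.eq_top_of_card_eq _ (by
          rw [Nat.card_zpowers, hr, Nat.card_units, Nat.card_eq_fintype_card])
        rw [htop]
        exact Subgroup.mem_top _
      exact this
    have e : x = (r : F) ^ n := by
      have := congrArg Units.val hn
      simpa using this.symm
    rw [e, ← mul_pow, map_pow, hfix]
  refine hσ1 (RingEquiv.ext fun x => ?_)
  show σ x = x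
  have h4 : (4 : F) ≠ 0 := by
    rw [show (4 : F) = 2 * 2 by norm_num]
    exact mul_ne_zero (two_ne_zero_of_odd hodd) (two_ne_zero_of_odd hodd)
  have e1 := hsq (x + 1)
  have e2 := hsq (x - 1)
  have e : σ (4 * x) = 4 * x := by
    rw [show 4 * x = (x + 1) * (x + 1) - (x - 1) * (x - 1) by ring, map_sub, e1, e2]
  rw [map_mul, map_ofNat] at e
  exact mul_left_cancel₀ h4 e

end Field

variable {G : Type*} [Group G] [Finite G] {P : NPart G}

/-- The dihedral case ends in `PSL₂(q)` or `PGL₂(q)`. -/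
theorem Dih.classify {T : Sylow 2 G} {t y a : G} (h : Dih P T t y a) : IsPSLTwo G ∨ IsPGLTwo G := by
  classical
  obtain ⟨N, F, iF, iF', hNn, hNt, hidx, hcent, hodd, h5, ⟨eN⟩⟩ := h.exists_psl
  letI := iF
  letI := iF'
  haveI := hNn
  by_cases hNtop : N = ⊤
  · exact Or.inl ⟨F, iF, iF', by omega, ⟨(Subgroup.topEquiv.symm.trans
      (MulEquiv.subgroupCongr hNtop.symm)).trans eN⟩⟩
  right
  have h2 : N.index = 2 := by
    have := mt Subgroup.index_eq_one.mp hNtop
    have := N.index_ne_zero_of_finite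
    omega
  haveI : Fact (Nat.Prime 2) := ⟨Nat.prime_two⟩
  let φ : G →* MulAut (Matrix.ProjectiveSpecialLinearGroup (Fin 2) F) :=
    { toFun := fun g => eN.symm.trans ((MulAut.conjNormal g : MulAut N).trans eN)
      map_one' := by ext x; simp
      map_mul' := fun g g' => by ext x; simp [MulAut.mul_apply] }
  have hφ : ∀ (g : G) (x : N), φ g (eN x) = eN (MulAut.conjNormal g x) := fun g x => by simp [φ]
  set ι : Matrix.ProjectiveSpecialLinearGroup (Fin 2) F → G := fun x => (eN.symm x : G) with hι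
  have hιconj : ∀ g x, g * ι x * g⁻¹ = ι (φ g x) := fun g x => by
    obtain ⟨z, rfl⟩ := eN.surjective x
    simp only [hι, hφ, MulEquiv.symm_apply_apply, MulAut.conjNormal_apply]
  have hinj : Function.Injective φ := by
    rw [← MonoidHom.ker_eq_bot_iff, eq_bot_iff, ← hcent]
    intro g hg
    refine Subgroup.mem_centralizer_iff.mpr fun z hz => ?_
    have e := hιconj g (eN ⟨z, hz⟩)
    rw [MonoidHom.mem_ker.mp hg, MulAut.one_apply] at e
    simp only [hι, MulEquiv.symm_apply_apply] at e
    exact (mul_inv_eq_iff_eq_mul.mp e).symm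
  have hinner : ∀ z : N, φ (z : G) = MulAut.conj (eN z) := fun z => by
    refine MulEquiv.ext fun x => ?_
    obtain ⟨w, rfl⟩ := eN.surjective x
    rw [hφ, MulAut.conj_apply, ← map_inv, ← map_mul, ← map_mul]
    exact congrArg eN (Subtype.ext (by simp))
  set D : Subgroup (MulAut (Matrix.ProjectiveSpecialLinearGroup (Fin 2) F)) :=
    CfsgLib.AutPSL.diagGroup with hD
  by_cases hall : ∀ g, φ g ∈ D
  · -- `G ≅ PGL₂(q)`
    have hle : φ.range ≤ D := by rintro _ ⟨g, rfl⟩; exact hall g
    have hinn : Cfsg.Inn (Matrix.ProjectiveSpecialLinearGroup (Fin 2) F) ≤ φ.range := by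
      rintro _ ⟨x, rfl⟩
      obtain ⟨z, rfl⟩ := eN.surjective x
      exact ⟨z, hinner z⟩
    have heq : φ.range = D := by
      set π := QuotientGroup.mk' (Cfsg.Inn (Matrix.ProjectiveSpecialLinearGroup (Fin 2) F))
      have h1 := (CfsgLib.AutPSL.isCyclic_card_diag (F := F) (le_refl 2)).2
      have h2' : Nat.gcd 2 (Fintype.card F - 1) ≤ 2 := Nat.le_of_dvd two_pos (Nat.gcd_dvd_left _ _)
      obtain ⟨g, hg⟩ := SetLike.exists_of_lt (lt_top_iff_ne_top.mpr hNtop)
      have hgp : π (φ g) ≠ 1 := fun e => by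
        obtain ⟨x, hx⟩ := (QuotientGroup.eq_one_iff _).mp e
        obtain ⟨z, rfl⟩ := eN.surjective x
        exact hg.2 ((hinj ((hinner z).trans hx) : (z : G) = g) ▸ z.2)
      haveI : Nontrivial ↥(φ.range.map π) := ⟨⟨⟨π (φ g), Subgroup.mem_map_of_mem π ⟨g, rfl⟩⟩, 1,
        fun e => hgp (congrArg Subtype.val e)⟩⟩
      have h3 : 1 < Nat.card ↥(φ.range.map π) := Finite.one_lt_card
      have h4 : φ.range.map π = D.map π := Subgroup.eq_of_le_of_card_ge (Subgroup.map_mono hle)
        (by rw [h1]; omega)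
      refine le_antisymm hle fun x hx => ?_
      have hxm : π x ∈ φ.range.map π := h4 ▸ Subgroup.mem_map_of_mem π hx
      obtain ⟨x', hx', e⟩ := hxm
      have : x'⁻¹ * x ∈ Cfsg.Inn (Matrix.ProjectiveSpecialLinearGroup (Fin 2) F) :=
        QuotientGroup.eq.mp e
      simpa using mul_mem hx' (hinn this)
    have hk : (CfsgLib.AutPSL.conjHom : GL (Fin 2) F →* MulAut
        (Matrix.ProjectiveSpecialLinearGroup (Fin 2) F)).ker = Subgroup.center (GL (Fin 2) F) := by
      ext g
      rw [MonoidHom.mem_ker]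
      exact CfsgLib.AutPSL.conjPSL_eq_one_iff le_rfl
    exact ⟨F, iF, iF', h5, hodd, ⟨((MonoidHom.ofInjective hinj).trans (MulEquiv.subgroupCongr heq)).trans
      ((QuotientGroup.quotientKerEquivRange CfsgLib.AutPSL.conjHom).symm.trans
        (QuotientGroup.quotientMulEquivOfEq hk))⟩⟩
  -- a field automorphism is impossible
  exfalso
  push Not at hall
  obtain ⟨g, hg⟩ := hall
  obtain ⟨M, σ, hMσ⟩ := CfsgLib.AutPSL.exists_decomposition_two (φ g)
  obtain ⟨s, hs⟩ := CfsgLib.AutPSL.exists_sl_mul_firstDiag (le_refl 2) M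
  set d := Matrix.GeneralLinearGroup.det M with hd
  set f := (ι (QuotientGroup.mk s))⁻¹ * g with hfdef
  have hφι : ∀ A, φ (ι A) = MulAut.conj A := fun A => by
    rw [hι, hinner, MulEquiv.apply_symm_apply]
  have hφf : ∀ A, φ f (QuotientGroup.mk A) = QuotientGroup.mk (twist d σ A) := by
    intro A
    rw [← conj_firstDiag]
    congr 1
    rw [hfdef, map_mul, map_inv, hφι, hMσ, hs, map_mul, inv_mul_eq_iff_eq_mul, mul_assoc,
      CfsgLib.AutPSL.conj_eq_conjPSL]
    rfl
  have hσ1 : σ ≠ 1 := fun e => hg (by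
    rw [hMσ, e, map_one, mul_one]
    exact ⟨M, rfl⟩)
  have hext : ∀ x : G, (∀ A, φ x (QuotientGroup.mk A) = QuotientGroup.mk A) → x = 1 := fun x hx => by
    refine hinj ((MulEquiv.ext fun z => ?_).trans φ.map_one.symm)
    obtain ⟨A, rfl⟩ := QuotientGroup.mk_surjective z
    rw [MulAut.one_apply]
    exact hx A
  -- `σ` is an involution
  have hσσ : σ * σ = 1 := by
    have hff : f * f ∈ N := Subgroup.mul_self_mem_of_index_two h2 f
    refine CfsgLib.AutPSL.fieldHom_mem_diag (le_refl 2) (σ * σ) ?_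
    set e : Fˣ := d * Units.map (σ : F →* F) d with he
    have hφff : ∀ A, φ (f * f) (QuotientGroup.mk A) = QuotientGroup.mk (twist e (σ * σ) A) := fun A => by
      rw [map_mul, MulAut.mul_apply, hφf, hφf, twist_twist, he]
    have h1 : φ (f * f) =
        CfsgLib.AutPSL.conjHom (CfsgLib.AutPSL.firstDiag (le_refl 2) e) * CfsgLib.AutPSL.fieldHom (σ * σ) := by
      refine MulEquiv.ext fun z => ?_
      obtain ⟨A, rfl⟩ := QuotientGroup.mk_surjective z
      rw [hφff, conj_firstDiag]
    have h3 : φ (f * f) ∈ D := CfsgLib.AutPSL.inn_le_diagGroup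
      ⟨eN ⟨f * f, hff⟩, (hinner ⟨f * f, hff⟩).symm⟩
    rw [h1] at h3
    have h4 : (CfsgLib.AutPSL.conjHom (CfsgLib.AutPSL.firstDiag (le_refl 2) e) :
        MulAut (Matrix.ProjectiveSpecialLinearGroup (Fin 2) F)) ∈ D := ⟨_, rfl⟩
    exact (Subgroup.mul_mem_cancel_left D h4).mp h3
  have h20 := two_ne_zero_of_odd hodd
  obtain ⟨⟨i, hi⟩, -⟩ := facts_of_involutory hσσ hσ1 hodd
  by_cases hsq : ∃ r : Fˣ, d = r * r
  · -- an outer involution centralising the prime field subgroup
    obtain ⟨r, hr⟩ := hsq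
    set f' := (ι (QuotientGroup.mk (torU r)))⁻¹ * f with hf'def
    have hφf' : ∀ A, φ f' (QuotientGroup.mk A) = QuotientGroup.mk (twist 1 σ A) := by
      intro A
      rw [hf'def, map_mul, map_inv, MulAut.mul_apply, hφf, hφι, ← map_inv, MulAut.conj_apply, inv_inv,
        ← QuotientGroup.mk_inv, ← QuotientGroup.mk_mul, ← QuotientGroup.mk_mul]
      refine congrArg QuotientGroup.mk (Subtype.ext ?_)
      show (torU r)⁻¹.1 * (twist d σ A).1 * (torU r).1 = (twist 1 σ A).1
      rw [Matrix.SpecialLinearGroup.coe_inv, hr]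
      ext a b
      fin_cases a <;> fin_cases b <;>
        simp [twist_val, torU_val, Matrix.adjugate_fin_two, Matrix.mul_apply, Fin.sum_univ_two] <;> field_simp
    have hf'sq : f' * f' = 1 := hext _ fun A => by
      rw [map_mul, MulAut.mul_apply, hφf', hφf', twist_twist, hσσ, map_one, one_mul, twist_one_one]
    have hf'1 : f' ≠ 1 := fun e => hσ1 (CfsgLib.AutPSL.fieldHom_mem_diag (le_refl 2) σ ⟨1, by
      refine MulEquiv.ext fun z => ?_
      obtain ⟨A, rfl⟩ := QuotientGroup.mk_surjective z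
      rw [map_one, MulAut.one_apply, ← one_mul (CfsgLib.AutPSL.fieldHom σ),
        ← map_one CfsgLib.AutPSL.conjHom, ← map_one (CfsgLib.AutPSL.firstDiag (F := F) (le_refl 2)),
        conj_firstDiag, ← hφf', e, map_one, MulAut.one_apply]⟩)
    have hf'2 : orderOf f' = 2 := orderOf_eq_prime (by rw [pow_two]; exact hf'sq) hf'1
    have hmemY : ∀ A, twist 1 σ A = A → (QuotientGroup.mk A :
        Matrix.ProjectiveSpecialLinearGroup (Fin 2) F) * QuotientGroup.mk A ≠ 1 →
        ι (QuotientGroup.mk A) ∈ P.comp f' := by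
      intro A hA hA2
      by_contra hnot
      have hc : Commute (ι (QuotientGroup.mk A)) f' := by
        have e := hιconj f' (QuotientGroup.mk A)
        rw [hφf', hA] at e
        exact (mul_inv_eq_iff_eq_mul.mp e).symm
      have e2 := Semi.sq_eq_one_of_outside hf'2 hc hnot
      refine hA2 (eN.symm.injective (Subtype.ext ?_))
      rw [map_mul, map_one, Subgroup.coe_mul]
      exact e2
    have hpow : ∀ n : ℕ, upperU (1 : F) ^ n = upperU (n : F) := by
      intro n
      induction n with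
      | zero => exact Subtype.ext (by ext a b; fin_cases a <;> fin_cases b <;> simp [Matrix.SpecialLinearGroup.coe_neg, Matrix.SpecialLinearGroup.coe_mul, Matrix.SpecialLinearGroup.coe_one, Matrix.SpecialLinearGroup.coe_inv, upperU_val])
      | succ n ih =>
        rw [pow_succ, ih]
        refine Subtype.ext ?_
        ext a b
        fin_cases a <;> fin_cases b <;> simp [Matrix.SpecialLinearGroup.coe_neg, Matrix.SpecialLinearGroup.coe_mul, Matrix.SpecialLinearGroup.coe_one, Matrix.SpecialLinearGroup.coe_inv, upperU_val, Matrix.mul_apply, Fin.sum_univ_two, add_comm]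
    have hU2 : (QuotientGroup.mk (upperU (1 : F)) :
        Matrix.ProjectiveSpecialLinearGroup (Fin 2) F) * QuotientGroup.mk (upperU (1 : F)) ≠ 1 := by
      rw [← QuotientGroup.mk_mul, ← pow_two, hpow, ← QuotientGroup.mk_one]
      intro e
      rcases mk_eq_cases e with e' | e' <;>
      · have := congrArg (fun M : Matrix.SpecialLinearGroup (Fin 2) F => M.1 0 1) e'
        simp [Matrix.SpecialLinearGroup.coe_neg, Matrix.SpecialLinearGroup.coe_mul, Matrix.SpecialLinearGroup.coe_one, Matrix.SpecialLinearGroup.coe_inv, upperU_val] at this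
        exact h20 this
    have hL2 : (QuotientGroup.mk (lowerU (1 : F)) :
        Matrix.ProjectiveSpecialLinearGroup (Fin 2) F) * QuotientGroup.mk (lowerU (1 : F)) ≠ 1 := by
      rw [← QuotientGroup.mk_mul, ← QuotientGroup.mk_one]
      intro e
      rcases mk_eq_cases e with e' | e' <;>
      · have := congrArg (fun M : Matrix.SpecialLinearGroup (Fin 2) F => M.1 1 0) e'
        simp [Matrix.SpecialLinearGroup.coe_neg, Matrix.SpecialLinearGroup.coe_mul, Matrix.SpecialLinearGroup.coe_one, Matrix.SpecialLinearGroup.coe_inv, lowerU_val, Matrix.mul_apply, Fin.sum_univ_two] at this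
        exact h20 (by linear_combination this)
    have huY := hmemY _ (Subtype.ext (by ext a b; fin_cases a <;> fin_cases b <;> simp [Matrix.SpecialLinearGroup.coe_neg, Matrix.SpecialLinearGroup.coe_mul, Matrix.SpecialLinearGroup.coe_one, Matrix.SpecialLinearGroup.coe_inv, upperU_val, twist_val])) hU2
    have hlY := hmemY _ (Subtype.ext (by ext a b; fin_cases a <;> fin_cases b <;> simp [Matrix.SpecialLinearGroup.coe_neg, Matrix.SpecialLinearGroup.coe_mul, Matrix.SpecialLinearGroup.coe_one, Matrix.SpecialLinearGroup.coe_inv, lowerU_val, twist_val])) hL2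
    set U : Matrix.ProjectiveSpecialLinearGroup (Fin 2) F := QuotientGroup.mk (upperU (1 : F)) with hU
    set L : Matrix.ProjectiveSpecialLinearGroup (Fin 2) F := QuotientGroup.mk (lowerU (1 : F)) with hL
    have hιmul : ∀ A B, ι (A * B) = ι A * ι B := fun A B => by simp [hι]
    have hιinv : ∀ A, ι A⁻¹ = (ι A)⁻¹ := fun A => by simp [hι]
    have hwY : ι (U * L⁻¹ * U) ∈ P.comp f' := by
      rw [hιmul, hιmul, hιinv]; exact mul_mem (mul_mem huY (inv_mem hlY)) huY
    have hιinj : Function.Injective ι := fun A B e => eN.symm.injective (Subtype.ext e)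
    have hUo : Odd (orderOf (ι U)) := by
      refine hodd.of_dvd_nat (orderOf_dvd_of_pow_eq_one ?_)
      have hk : ∀ n : ℕ, ι U ^ n = ι (U ^ n) := by
        intro n
        induction n with
        | zero => simp [hι]
        | succ n ih => rw [pow_succ, pow_succ, hιmul, ih]
      rw [hk, hU, ← QuotientGroup.mk_pow, hpow, FiniteField.cast_card_eq_zero]
      have e0 : upperU (0 : F) = 1 := Subtype.ext (by ext a b; fin_cases a <;> fin_cases b <;> simp [Matrix.SpecialLinearGroup.coe_neg, Matrix.SpecialLinearGroup.coe_mul, Matrix.SpecialLinearGroup.coe_one, Matrix.SpecialLinearGroup.coe_inv, upperU_val])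
      rw [e0, QuotientGroup.mk_one]
      simp [hι]
    have hwsq : U * L⁻¹ * U * (U * L⁻¹ * U) = 1 := by
      rw [hU, hL]
      simp only [← QuotientGroup.mk_inv, ← QuotientGroup.mk_mul]
      rw [QuotientGroup.eq_one_iff, CfsgLib.SL2.mem_center_iff']
      right
      refine Subtype.ext ?_
      simp only [Matrix.SpecialLinearGroup.coe_mul, Matrix.SpecialLinearGroup.coe_inv,
        Matrix.SpecialLinearGroup.coe_neg, Matrix.SpecialLinearGroup.coe_one]
      ext a b
      fin_cases a <;> fin_cases b <;>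
        simp [Matrix.SpecialLinearGroup.coe_neg, Matrix.SpecialLinearGroup.coe_mul, Matrix.SpecialLinearGroup.coe_one, Matrix.SpecialLinearGroup.coe_inv, upperU_val, lowerU_val, Matrix.adjugate_fin_two, Matrix.mul_apply, Fin.sum_univ_two]
    have hwo : orderOf (ι (U * L⁻¹ * U)) ∣ 2 := orderOf_dvd_of_pow_eq_one (by
      rw [pow_two, ← hιmul, hwsq]; simp [hι])
    have hcop : (orderOf (ι (U * L⁻¹ * U))).Coprime (orderOf (ι U)) :=
      (Nat.coprime_two_left.mpr hUo).coprime_dvd_left hwo
    have hcomm := CfsgLib.NilProd.commute_of_coprime (h.semi.isNilpotent hf'1) hwY huY hcop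
    rw [← hιmul, ← hιmul] at hcomm
    have hcomm' := hιinj hcomm
    rw [hU, hL] at hcomm'
    simp only [← QuotientGroup.mk_inv, ← QuotientGroup.mk_mul] at hcomm'
    rcases mk_eq_cases hcomm' with e' | e' <;>
    · have := congrArg (fun M : Matrix.SpecialLinearGroup (Fin 2) F => M.1 1 1) e'
      simp [Matrix.SpecialLinearGroup.coe_neg, Matrix.SpecialLinearGroup.coe_mul, Matrix.SpecialLinearGroup.coe_one, Matrix.SpecialLinearGroup.coe_inv, upperU_val, lowerU_val, Matrix.adjugate_fin_two, Matrix.mul_apply, Fin.sum_univ_two] at this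
  -- the nonsquare case: `f² ≠ 1` in the centraliser of the involution `diag (i, -i)`
  push Not at hsq
  have hf2 : f * f ≠ 1 := by
    intro e
    have h1 : φ (f * f) (QuotientGroup.mk (upperU (1 : F))) = QuotientGroup.mk (upperU (1 : F)) := by
      rw [e, map_one, MulAut.one_apply]
    rw [map_mul, MulAut.mul_apply, hφf, hφf, twist_twist] at h1
    rcases mk_eq_cases h1 with e' | e'
    · have h01 := congrArg (fun M : Matrix.SpecialLinearGroup (Fin 2) F => M.1 0 1) e'
      simp [Matrix.SpecialLinearGroup.coe_neg, Matrix.SpecialLinearGroup.coe_mul, Matrix.SpecialLinearGroup.coe_one, Matrix.SpecialLinearGroup.coe_inv, twist_val, upperU_val] at h01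
      obtain ⟨r, hr⟩ := isSquare_of_norm_one hσσ hσ1 h01
      have hr0 : r ≠ 0 := fun e0 => d.ne_zero (by rw [hr, e0, mul_zero])
      exact hsq (Units.mk0 r hr0) (Units.ext hr)
    · have h00 := congrArg (fun M : Matrix.SpecialLinearGroup (Fin 2) F => M.1 0 0) e'
      simp [Matrix.SpecialLinearGroup.coe_neg, Matrix.SpecialLinearGroup.coe_mul, Matrix.SpecialLinearGroup.coe_one, Matrix.SpecialLinearGroup.coe_inv, twist_val, upperU_val] at h00
      exact h20 (by linear_combination h00)
  set A0 : Matrix.ProjectiveSpecialLinearGroup (Fin 2) F := QuotientGroup.mk (torU i) with hA0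
  have hσi : σ (i : F) = i ∨ σ (i : F) = -i := mul_self_eq_mul_self_iff.mp (by
    rw [← map_mul, hi, map_neg, map_one])
  have hA0fix : φ f A0 = A0 := by
    rw [hA0, hφf, twist_torU]
    rcases hσi with e | e
    · exact congrArg (fun r => (QuotientGroup.mk (torU r) :
        Matrix.ProjectiveSpecialLinearGroup (Fin 2) F)) (Units.ext e)
    · rw [QuotientGroup.eq, CfsgLib.SL2.mem_center_iff']
      right
      refine Subtype.ext ?_
      simp only [Matrix.SpecialLinearGroup.coe_mul, Matrix.SpecialLinearGroup.coe_inv,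
        Matrix.SpecialLinearGroup.coe_neg, Matrix.SpecialLinearGroup.coe_one]
      ext a b
      fin_cases a <;> fin_cases b <;>
        simp [Matrix.SpecialLinearGroup.coe_neg, Matrix.SpecialLinearGroup.coe_mul, Matrix.SpecialLinearGroup.coe_one, Matrix.SpecialLinearGroup.coe_inv, torU_val, Matrix.adjugate_fin_two, Matrix.mul_apply, Fin.sum_univ_two, e]
  have hA02 : orderOf (ι A0) = 2 := by
    have e1 : orderOf (ι A0) = orderOf A0 := (Subgroup.orderOf_coe _).trans (eN.symm.orderOf_eq A0)
    rw [e1]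
    refine orderOf_eq_prime ?_ ?_
    · rw [pow_two, hA0, ← QuotientGroup.mk_mul, QuotientGroup.eq_one_iff, CfsgLib.SL2.mem_center_iff']
      right
      refine Subtype.ext ?_
      simp only [Matrix.SpecialLinearGroup.coe_mul, Matrix.SpecialLinearGroup.coe_neg,
        Matrix.SpecialLinearGroup.coe_one]
      ext a b
      fin_cases a <;> fin_cases b <;> simp [Matrix.SpecialLinearGroup.coe_neg, Matrix.SpecialLinearGroup.coe_mul, Matrix.SpecialLinearGroup.coe_one, Matrix.SpecialLinearGroup.coe_inv, torU_val, Matrix.mul_apply, Fin.sum_univ_two, hi, ← mul_inv]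
    · intro e
      rw [hA0, QuotientGroup.eq_one_iff, CfsgLib.SL2.mem_center_iff'] at e
      have h00 : (i : F) = 1 ∨ (i : F) = -1 := e.imp
        (fun e' => by simpa [Matrix.SpecialLinearGroup.coe_neg, Matrix.SpecialLinearGroup.coe_mul, Matrix.SpecialLinearGroup.coe_one, Matrix.SpecialLinearGroup.coe_inv, torU_val] using congrArg (fun M : Matrix.SpecialLinearGroup (Fin 2) F => M.1 0 0) e')
        (fun e' => by simpa [Matrix.SpecialLinearGroup.coe_neg, Matrix.SpecialLinearGroup.coe_mul, Matrix.SpecialLinearGroup.coe_one, Matrix.SpecialLinearGroup.coe_inv, torU_val] using congrArg (fun M : Matrix.SpecialLinearGroup (Fin 2) F => M.1 0 0) e')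
      rcases h00 with e' | e' <;>
      · rw [e'] at hi
        exact h20 (by linear_combination hi)
  obtain ⟨c, hc⟩ : ∃ c : G, c * ι A0 * c⁻¹ = t := by
    have hone := (CfsgLib.CIT.oneClass_psl_two (F := F) (Nat.odd_iff.mp hodd)).2
    obtain ⟨c, hc⟩ := isConj_iff.mp (hone A0 (eN ⟨t, hNt⟩)
      (by rw [← eN.symm.orderOf_eq, ← Subgroup.orderOf_coe]; exact hA02)
      (by rw [eN.orderOf_eq, ← Subgroup.orderOf_coe]; exact h.ht))
    refine ⟨ι c, ?_⟩
    have := congrArg ι hc
    simpa [hι] using this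
  set f1 := c * f * c⁻¹ with hf1
  have hf1t : Commute f1 t := by
    have e := hιconj f A0
    rw [hA0fix] at e
    rw [← hc]
    exact (show Commute f (ι A0) from mul_inv_eq_iff_eq_mul.mp e).map (MulAut.conj c).toMonoidHom
  have hf1X : f1 ∈ P.comp t := by
    by_contra hnot
    have e := Semi.sq_eq_one_of_outside h.ht hf1t hnot
    rw [hf1, show c * f * c⁻¹ * (c * f * c⁻¹) = c * (f * f) * c⁻¹ by group, conj_eq_one_iff] at e
    exact hf2 e
  refine exists_moved hσσ hσ1 hodd fun r => ?_
  set R : Matrix.ProjectiveSpecialLinearGroup (Fin 2) F := QuotientGroup.mk (torU r) with hR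
  set r1 := c * ι R * c⁻¹ with hr1
  have hr1t : Commute r1 t := by
    rw [← hc]
    refine Commute.map ?_ (MulAut.conj c).toMonoidHom
    show ι R * ι A0 = ι A0 * ι R
    simp only [hι, ← Subgroup.coe_mul, ← map_mul]
    congr 2
    rw [hR, hA0, ← QuotientGroup.mk_mul, ← QuotientGroup.mk_mul]
    refine congrArg QuotientGroup.mk (Subtype.ext ?_)
    ext a b
    fin_cases a <;> fin_cases b <;> simp [Matrix.SpecialLinearGroup.coe_neg, Matrix.SpecialLinearGroup.coe_mul, Matrix.SpecialLinearGroup.coe_one, Matrix.SpecialLinearGroup.coe_inv, torU_val, Matrix.mul_apply, Fin.sum_univ_two, mul_comm]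
  by_cases hrX : r1 ∈ P.comp t
  · have hcm := (h.abelian hf1X hrX).map (MulAut.conj c⁻¹).toMonoidHom
    have hcm' : Commute f (ι R) := by simpa [hf1, hr1, mul_assoc] using hcm
    have e := hιconj f R
    rw [hcm'.eq, mul_inv_cancel_right] at e
    have e' : R = φ f R := eN.symm.injective (Subtype.ext e)
    rw [hR, hφf, twist_torU] at e'
    rcases mk_torU_eq e'.symm with e'' | e''
    · exact Or.inl e''
    · exact Or.inr (Or.inl e'')
  · have e := Semi.sq_eq_one_of_outside h.ht hr1t hrX
    rw [hr1, show c * ι R * c⁻¹ * (c * ι R * c⁻¹) = c * (ι R * ι R) * c⁻¹ by group, conj_eq_one_iff] at e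
    have e' : R * R = 1 := eN.symm.injective (Subtype.ext (by simpa [hι] using e))
    rw [hR, ← QuotientGroup.mk_mul, ← QuotientGroup.mk_one] at e'
    refine Or.inr (Or.inr ?_)
    rcases mk_eq_cases e' with e'' | e''
    · have h00 := congrArg (fun M : Matrix.SpecialLinearGroup (Fin 2) F => M.1 0 0) e''
      simp [Matrix.SpecialLinearGroup.coe_neg, Matrix.SpecialLinearGroup.coe_mul, Matrix.SpecialLinearGroup.coe_one, Matrix.SpecialLinearGroup.coe_inv, torU_val, Matrix.mul_apply, Fin.sum_univ_two] at h00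
      linear_combination ((r : F) * r + 1) * h00
    · have h00 := congrArg (fun M : Matrix.SpecialLinearGroup (Fin 2) F => M.1 0 0) e''
      simp [Matrix.SpecialLinearGroup.coe_neg, Matrix.SpecialLinearGroup.coe_mul, Matrix.SpecialLinearGroup.coe_one, Matrix.SpecialLinearGroup.coe_inv, torU_val, Matrix.mul_apply, Fin.sum_univ_two] at h00
      linear_combination ((r : F) * r - 1) * h00

end CfsgLib.Partition8
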