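import Cfsg.Agent.Partition8.Abelian
import Cfsg.Agent.Partition8.SemiTwo
import Cfsg.Agent.Partition8.Recognise

/-!
Finite groups with a non-trivial partition.
-/

set_option autoImplicit false
set_option maxHeartbeats 400000

namespace CfsgLib.Partition8

variable {G : Type*} [Group G] [Finite G]

/-- The classification for an invariant partition. -/
theorem classify (P : NPart G) [Nontrivial G] :
    Nonempty (G ≃* Equiv.Perm (Fin 4)) ∨ HughesProper G ∨ HasFrobenius G ∨ IsPSLTwo G ∨ IsPGLTwo G ∨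
      Cfsg.Lie.IsoSuzuki G := by
  classical
  haveI : Fact (Nat.Prime 2) := ⟨Nat.prime_two⟩
  by_cases hself : ∀ x : G, x ≠ 1 → ∃ g ∈ Subgroup.normalizer (P.comp x : Set G), g ∉ P.comp x
  swap
  · push Not at hself
    obtain ⟨x, hx, hxN⟩ := hself
    exact Or.inr (Or.inr (Or.inl ⟨_, P.frobeniusComplement_comp hx hxN⟩))
  by_cases hrad : ∀ N : Subgroup G, N.Normal → Group.IsSolvable N → N = ⊥
  swap
  · push Not at hrad
    obtain ⟨N, hNn, hNs, hN1⟩ := hrad
    obtain ⟨V, hV, hVN⟩ := CfsgLib.MinNormal.exists_isMinNormal_le hNn hN1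
    haveI : Group.IsSolvable V := Group.isSolvable_of_isSolvable_injective
      (f := Subgroup.inclusion hVN) (Subgroup.inclusion_injective hVN)
    obtain ⟨p, hp, hVc, -, hVp⟩ := hV.exists_elementary_of_isSolvable inferInstance
    haveI := Fact.mk hp
    rcases abelian_main P hV (fun x hx y hy => congrArg Subtype.val (hVc.is_comm.comm ⟨x, hx⟩ ⟨y, hy⟩))
      hVp with h | h | h
    · exact Or.inr (Or.inl h)
    · exact Or.inr (Or.inr (Or.inl h))
    · exact Or.inl h
  have hS : Semi P := ⟨hrad, hself⟩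
  have key : IsPSLTwo G ∨ Cfsg.Lie.IsoSuzuki G ∨ IsPGLTwo G := by
    obtain ⟨T⟩ : Nonempty (Sylow 2 G) := inferInstance
    by_cases hI : ∃ t : G, orderOf t = 2 ∧ (∀ s ∈ (T : Subgroup G), Commute s t) ∧
        ∀ c, Commute c t → c ∈ P.comp t
    · obtain ⟨t, ht, htc, hC⟩ := hI
      exact (hS.classify_inside T ht htc hC).imp id Or.inl
    by_cases hII : ∀ u ∈ (T : Subgroup G), orderOf u = 2 → (∀ s ∈ (T : Subgroup G), Commute s u) →
        ∀ c, Commute c u → c * c = 1
    · have hT : (T : Subgroup G) ≠ ⊥ := by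
        refine T.ne_bot_of_dvd_card ?_
        by_contra h2
        have ho : Odd (Nat.card (⊤ : Subgroup G)) := by
          rw [Subgroup.card_top, ← Nat.not_even_iff_odd, even_iff_two_dvd]; exact h2
        exact top_ne_bot (hS.eq_bot_of_odd inferInstance ho)
      exact (hS.classify_elementary T hT hII).imp id Or.inl
    push Not at hII
    obtain ⟨u, -, hu2, huc, hnot⟩ := hII
    rcases Semi.centralizer_cases (P := P) hu2 with h | h | ⟨y, a, hyt, hy, hat, ha, ha2, hout⟩
    · exact absurd ⟨u, hu2, huc, h⟩ hI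
    · obtain ⟨c, hc, hc2⟩ := hnot
      exact absurd (h c hc) hc2
    · obtain ⟨y', hD⟩ := hS.exists_dih T hu2 huc hyt hy hat ha ha2 hout
      exact hD.classify.imp id Or.inr
  rcases key with h | h | h
  · exact Or.inr (Or.inr (Or.inr (Or.inl h)))
  · exact Or.inr (Or.inr (Or.inr (Or.inr (Or.inr h))))
  · exact Or.inr (Or.inr (Or.inr (Or.inr (Or.inl h))))

end CfsgLib.Partition8
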