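import Cfsg.Agent.Partition8.NormalComp

/-!
Partitions of groups with an abelian minimal normal subgroup.
-/

set_option autoImplicit false
set_option maxHeartbeats 800000

namespace CfsgLib.Partition8

variable {G : Type*} [Group G] [Finite G]

/-- A `p`-element with non-trivial `p`-th power and an elementary abelian normal subgroup
normalising its component: outside the component the norm is `g⁻ᵖ`. -/
theorem NPart.outside_comp (P : NPart G) {p : ℕ} [hp : Fact p.Prime] {g : G}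
    (hgp : g ^ p ≠ 1) (A : Subgroup G) (hAn : A.Normal) (hAc : ∀ a ∈ A, ∀ b ∈ A, Commute a b)
    (hAp : ∀ a ∈ A, a ^ p = 1) (hnor : A ≤ Subgroup.normalizer (P.comp g : Set G)) :
    ∀ v ∈ A, v ∉ P.comp g → p = 2 ∧ g ^ p ∈ A ∧ ∀ w ∈ A, w ∉ P.comp g → v * w ∈ P.comp g := by
  classical
  haveI := hAn
  have hg1 : g ≠ 1 := fun e => hgp (by rw [e, one_pow])
  have hgY : g ∈ P.comp g := P.mem_comp g hg1
  letI : CommGroup A := { (inferInstance : Group A) with
    mul_comm := fun a b => Subtype.ext (hAc _ a.2 _ b.2).eq }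
  let N : A → A := fun a => ∏ i ∈ Finset.range p, MulAut.conjNormal (g ^ i) a
  have hNmul : ∀ a b, N (a * b) = N a * N b := fun a b => by
    simp only [N, map_mul, Finset.prod_mul_distrib]
  have hNcoe : ∀ a : A, (N a : G) = ((a : G) * g) ^ p * (g ^ p)⁻¹ := by
    intro a
    have key : ∀ n : ℕ, ((∏ i ∈ Finset.range n, MulAut.conjNormal (g ^ i) a : A) : G) =
        ((a : G) * g) ^ n * (g ^ n)⁻¹ := by
      intro n
      induction n with
      | zero => simp
      | succ n ih =>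
        rw [Finset.prod_range_succ, Subgroup.coe_mul, ih, MulAut.conjNormal_apply,
          pow_succ ((a : G) * g), pow_succ g]
        group
    exact key p
  have hNY : ∀ a : A, (N a : G) ∈ P.comp g := by
    intro a
    have h1 : (∏ i ∈ Finset.range p, MulAut.conjNormal (g ^ i) a * a⁻¹ : A) ∈
        (P.comp g).subgroupOf A := by
      refine Subgroup.prod_mem _ fun i _ => Subgroup.mem_subgroupOf.mpr ?_
      rw [Subgroup.coe_mul, Subgroup.coe_inv, MulAut.conjNormal_apply,
        show g ^ i * (a : G) * (g ^ i)⁻¹ * (a : G)⁻¹ = g ^ i * ((a : G) * (g ^ i)⁻¹ * (a : G)⁻¹) by group]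
      exact mul_mem (pow_mem hgY i)
        ((Subgroup.mem_normalizer_iff.mp (hnor a.2) _).mp (inv_mem (pow_mem hgY i)))
    have ha : (a⁻¹ : A) ^ p = 1 := Subtype.ext (by
      rw [SubgroupClass.coe_pow, Subgroup.coe_inv, inv_pow, hAp a a.2, inv_one]; rfl)
    rw [Finset.prod_mul_distrib, Finset.prod_const, Finset.card_range, ha, mul_one] at h1
    exact Subgroup.mem_subgroupOf.mp h1
  have hout : ∀ a : A, (a : G) ∉ P.comp g → (N a : G) = (g ^ p)⁻¹ := by
    intro a ha
    by_contra hne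
    have h1 : ((a : G) * g) ^ p = (N a : G) * g ^ p := by rw [hNcoe]; group
    have hmem : ((a : G) * g) ^ p ∈ P.comp g := h1 ▸ mul_mem (hNY a) (pow_mem hgY p)
    have hne1 : ((a : G) * g) ^ p ≠ 1 := fun e => hne (by rw [hNcoe, e, one_mul])
    have h2 : (a : G) * g ∈ P.comp g := by
      rw [← P.comp_eq g _ hg1 hmem hne1, P.comp_pow hne1]
      exact P.mem_comp _ fun e => hne1 (by rw [e, one_pow])
    exact ha (by simpa using mul_mem h2 (inv_mem hgY))
  intro v hv hvY
  have hpair : ∀ w ∈ A, w ∉ P.comp g → v * w ∈ P.comp g := by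
    intro w hw hwY
    by_contra hvw
    have h1 := hout (⟨v, hv⟩ * ⟨w, hw⟩) hvw
    rw [hNmul, Subgroup.coe_mul, hout ⟨v, hv⟩ hvY, hout ⟨w, hw⟩ hwY, mul_eq_left, inv_eq_one] at h1
    exact hgp h1
  refine ⟨?_, ?_, hpair⟩
  · by_contra hp2
    have h2 : v * v ∈ P.comp g := hpair v hv hvY
    have hcop : (2 : ℕ).Coprime (orderOf v) :=
      ((Nat.coprime_primes Nat.prime_two hp.out).mpr (Ne.symm hp2)).coprime_dvd_right
        (orderOf_dvd_of_pow_eq_one (hAp v hv))
    obtain ⟨m, hm⟩ := exists_pow_eq_self_of_coprime hcop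
    exact hvY (hm ▸ pow_mem ((pow_two v).symm ▸ h2) m)
  · rw [← inv_mem_iff, ← hout ⟨v, hv⟩ hvY]
    exact SetLike.coe_mem _

section

variable (P : NPart G) {V : Subgroup G} {p : ℕ} [hp : Fact p.Prime]

theorem orderOf_eq_of_mem {v : G} (hVp : ∀ x ∈ V, x ^ p = 1) (hv : v ∈ V) (hv1 : v ≠ 1) :
    orderOf v = p :=
  ((Nat.dvd_prime hp.out).mp (orderOf_dvd_of_pow_eq_one (hVp v hv))).resolve_left
    fun e => hv1 (orderOf_eq_one_iff.mp e)

theorem exists_fixed_ne_one [hVn : V.Normal] (hV1 : V ≠ ⊥) (hVp : ∀ x ∈ V, x ^ p = 1) {a : G}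
    {k : ℕ} (ha : a ^ p ^ k = 1) : ∃ v ∈ V, v ≠ 1 ∧ Commute a v := by
  haveI := Fintype.ofFinite V
  have hσ : (MulAut.conjNormal a : MulAut V).toEquiv ^ p ^ k = 1 := by
    refine Equiv.ext fun z => ?_
    have h2 : ∀ n : ℕ, ((MulAut.conjNormal a : MulAut V).toEquiv ^ n) z =
        ((MulAut.conjNormal (a ^ n) : MulAut V)) z := by
      intro n
      induction n with
      | zero => simp
      | succ n ih => rw [pow_succ', pow_succ', map_mul, Equiv.Perm.mul_apply, ih]; rfl
    rw [h2, ha, map_one]; rfl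
  have hdvd : p ∣ Fintype.card V := by
    obtain ⟨v, hv, hv1⟩ := (Subgroup.bot_or_exists_ne_one V).resolve_left hV1
    rw [← Nat.card_eq_fintype_card]
    exact orderOf_eq_of_mem hVp hv hv1 ▸ Subgroup.orderOf_dvd_natCard V hv
  obtain ⟨z, hz, hz1⟩ := Equiv.Perm.exists_fixed_point_of_prime' hdvd hσ (a := (1 : V))
    (map_one (MulAut.conjNormal a : MulAut V))
  refine ⟨z, z.2, fun e => hz1 (Subtype.ext e), ?_⟩
  have h1 : a * (z : G) * a⁻¹ = z := by simpa using congrArg Subtype.val hz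
  exact mul_inv_eq_iff_eq_mul.mp h1

variable (hV : CfsgLib.MinNormal.IsMinNormal V) (hab : ∀ x ∈ V, ∀ y ∈ V, Commute x y)
  (hVp : ∀ x ∈ V, x ^ p = 1) (hnc : ∀ x : G, x ≠ 1 → ¬ V ≤ P.comp x)

include hnc hVp in
theorem centralizer_pow_eq_one {w : G} (hw : ∀ v ∈ V, Commute w v) : w ^ p = 1 := by
  by_cases hw1 : w = 1
  · rw [hw1, one_pow]
  obtain ⟨v, hv, hvY⟩ := SetLike.not_le_iff_exists.mp (hnc w hw1)
  have hv1 : v ≠ 1 := fun e => hvY (e ▸ one_mem _)
  obtain ⟨-, ho⟩ := P.eq_orderOf hw1 hv1 (hw v hv) hvY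
  rw [← orderOf_eq_of_mem hVp hv hv1, ho, pow_orderOf_eq_one]

include hV hab hVp hnc in
/-- A component meeting the centraliser of `V` contains no `p'`-element. -/
theorem eq_one_of_mem_comp {w k : G} (hw1 : w ≠ 1) (hw : ∀ v ∈ V, Commute w v) (hk : k ∈ P.comp w)
    (hkp : ¬ p ∣ orderOf k) : k = 1 := by
  classical
  by_contra hk1
  haveI := hV.normal
  refine hnc w hw1 fun v hv => ?_
  letI : CommGroup V := { (inferInstance : Group V) with
    mul_comm := fun a b => Subtype.ext (hab _ a.2 _ b.2).eq }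
  set m := orderOf k with hm
  let N : V := ∏ i ∈ Finset.range m, MulAut.conjNormal (k ^ i) (⟨v, hv⟩ : V)
  have hNY : (N * (⟨v, hv⟩ : V)⁻¹ ^ m : V) ∈ (P.comp w).subgroupOf V := by
    have h1 : (∏ i ∈ Finset.range m, MulAut.conjNormal (k ^ i) (⟨v, hv⟩ : V) * (⟨v, hv⟩ : V)⁻¹) ∈
        (P.comp w).subgroupOf V := by
      refine Subgroup.prod_mem _ fun i _ => Subgroup.mem_subgroupOf.mpr ?_
      have hn := P.mem_normalizer_of_commute hw1 (P.mem_comp w hw1) hw1 (hw v hv).symm
      rw [Subgroup.coe_mul, Subgroup.coe_inv, MulAut.conjNormal_apply, Subgroup.coe_mk,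
        show k ^ i * v * (k ^ i)⁻¹ * v⁻¹ = k ^ i * (v * (k ^ i)⁻¹ * v⁻¹) by group]
      exact mul_mem (pow_mem hk i) ((Subgroup.mem_normalizer_iff.mp hn _).mp (inv_mem (pow_mem hk i)))
    rwa [Finset.prod_mul_distrib, Finset.prod_const, Finset.card_range] at h1
  have hfix : MulAut.conjNormal k N = N := by
    have hrot : ∀ n : ℕ, MulAut.conjNormal k (∏ i ∈ Finset.range n, MulAut.conjNormal (k ^ i) (⟨v, hv⟩ : V)) *
        (⟨v, hv⟩ : V) = ∏ i ∈ Finset.range (n + 1), MulAut.conjNormal (k ^ i) (⟨v, hv⟩ : V) := by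
      intro n
      rw [Finset.prod_range_succ', pow_zero, map_one, MulAut.one_apply, map_prod]
      simp only [pow_succ', map_mul, MulAut.mul_apply]
    have h2 := hrot m
    rw [Finset.prod_range_succ, hm, pow_orderOf_eq_one, map_one, MulAut.one_apply, ← hm] at h2
    exact mul_right_cancel h2
  have hNmem : (N : G) ∈ P.comp w := by
    by_cases hN1 : (N : G) = 1
    · rw [hN1]; exact one_mem _
    by_contra hNY'
    have hc : Commute k (N : G) :=
      mul_inv_eq_iff_eq_mul.mp ((MulAut.conjNormal_apply k N).symm.trans (congrArg Subtype.val hfix))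
    obtain ⟨-, ho⟩ := P.eq_orderOf hk1 hN1 hc (by rwa [P.comp_eq w k hw1 hk hk1])
    exact hkp (dvd_of_eq ((orderOf_eq_of_mem hVp N.2 hN1).symm.trans ho))
  have hvm : v ^ m ∈ P.comp w := by
    have h1 := Subgroup.mem_subgroupOf.mp hNY
    rw [Subgroup.coe_mul, SubgroupClass.coe_pow, Subgroup.coe_inv, inv_pow] at h1
    have h3 := mul_mem (inv_mem h1) hNmem
    rwa [mul_inv_rev, inv_inv, Subgroup.coe_mk, inv_mul_cancel_right] at h3
  have hcop : m.Coprime (orderOf v) :=
    ((hp.out.coprime_iff_not_dvd.mpr hkp).symm).coprime_dvd_right (orderOf_dvd_of_pow_eq_one (hVp v hv))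
  obtain ⟨n, hn⟩ := exists_pow_eq_self_of_coprime hcop
  exact hn ▸ pow_mem hvm n

include hV hab hVp hnc in
theorem not_commute_of_not_dvd {v k : G} (hv : v ∈ V) (hv1 : v ≠ 1) (hk1 : k ≠ 1)
    (hkp : ¬ p ∣ orderOf k) : ¬ Commute k v := by
  intro hc
  by_cases hkY : k ∈ P.comp v
  · exact hk1 (eq_one_of_mem_comp P hV hab hVp hnc hv1 (fun x hx => hab v hv x hx) hkY hkp)
  · obtain ⟨-, ho⟩ := P.eq_orderOf hv1 hk1 hc.symm hkY
    exact hkp (dvd_of_eq ((orderOf_eq_of_mem hVp hv hv1).symm.trans ho.symm))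

include hV hab hVp hnc in
theorem exists_pow_of_dvd {g : G} (hg : p ∣ orderOf g) : ∃ k, orderOf g = p ^ k := by
  haveI := hV.normal
  by_contra hk
  have hg1 : g ≠ 1 := fun e => by rw [e, orderOf_one, Nat.dvd_one] at hg; exact hp.out.ne_one hg
  obtain ⟨q, hq, hqd, hqp⟩ : ∃ q, q.Prime ∧ q ∣ orderOf g ∧ q ≠ p := by
    by_contra hcon
    push Not at hcon
    exact hk ⟨_, Nat.eq_prime_pow_of_unique_prime_dvd (orderOf_pos g).ne' fun {d} hd hdd => hcon d hd hdd⟩
  set a := g ^ (orderOf g / p) with hadef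
  set k := g ^ (orderOf g / q) with hkdef
  have ha : orderOf a = p := orderOf_pow_orderOf_div (orderOf_pos g).ne' hg
  have hko : orderOf k = q := orderOf_pow_orderOf_div (orderOf_pos g).ne' hqd
  have ha1 : a ≠ 1 := fun e => by rw [e, orderOf_one] at ha; exact hp.out.ne_one ha.symm
  have hk1 : k ≠ 1 := fun e => by rw [e, orderOf_one] at hko; exact hq.ne_one hko.symm
  have hkp : ¬ p ∣ orderOf k := by
    rw [hko]; exact fun h => hqp ((Nat.prime_dvd_prime_iff_eq hp.out hq).mp h).symm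
  obtain ⟨v, hv, hv1, hc⟩ := exists_fixed_ne_one (k := 1) hV.ne_bot hVp
    (a := a) (by rw [pow_one, ← ha, pow_orderOf_eq_one])
  have hn := P.mem_normalizer_of_commute hg1 (pow_mem (P.mem_comp g hg1) _) ha1 hc.symm
  have hkY : k ∈ P.comp g := pow_mem (P.mem_comp g hg1) _
  set u := k * (v * k⁻¹ * v⁻¹) with hu
  have huY : u ∈ P.comp g := mul_mem hkY ((Subgroup.mem_normalizer_iff.mp hn _).mp (inv_mem hkY))
  have huV : u ∈ V := by
    rw [hu, show k * (v * k⁻¹ * v⁻¹) = k * v * k⁻¹ * v⁻¹ by group]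
    exact mul_mem (hV.normal.conj_mem v hv k) (inv_mem hv)
  have hu1 : u ≠ 1 := fun e => not_commute_of_not_dvd P hV hab hVp hnc hv hv1 hk1 hkp (by
    rw [hu, show k * (v * k⁻¹ * v⁻¹) = k * v * k⁻¹ * v⁻¹ by group, mul_inv_eq_one,
      mul_inv_eq_iff_eq_mul] at e
    exact e)
  refine hk1 (eq_one_of_mem_comp P hV hab hVp hnc hu1 (fun x hx => hab u huV x hx) ?_ hkp)
  rwa [P.comp_eq g u hg1 huY hu1]

end

/-- A group of order 24 with four Sylow 3-subgroups and no normal subgroup normalising one. -/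
theorem nonempty_perm_of_card {G : Type*} [Group G] [Finite G] (hcard : Nat.card G = 24)
    (hker : ∀ K : Subgroup G, K.Normal → K ≠ ⊥ → ∃ T : Sylow 3 G,
      ¬ K ≤ Subgroup.normalizer ((T : Subgroup G) : Set G))
    (hnot : ∀ T : Sylow 3 G, ¬ (T : Subgroup G).Normal) :
    Nonempty (G ≃* Equiv.Perm (Fin 4)) := by
  classical
  haveI : Fact (Nat.Prime 3) := ⟨Nat.prime_three⟩
  obtain ⟨T⟩ : Nonempty (Sylow 3 G) := inferInstance
  have hT : Nat.card T = 3 := by
    rw [T.card_eq_multiplicity, hcard, show (24 : ℕ) = 3 ^ 1 * 8 by norm_num,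
      Nat.factorization_mul (by norm_num) (by norm_num), Finsupp.add_apply,
      Nat.Prime.factorization_pow Nat.prime_three, Finsupp.single_eq_same,
      Nat.factorization_eq_zero_of_not_dvd (n := 8) (by norm_num)]
    rfl
  have hidx : (T : Subgroup G).index = 8 := by
    have := (T : Subgroup G).card_mul_index
    rw [hT, hcard] at this; omega
  have hn4 : Nat.card (Sylow 3 G) = 4 := by
    have h1 : Nat.card (Sylow 3 G) ∣ 8 := hidx ▸ T.card_dvd_index
    have h2 := card_sylow_modEq_one 3 G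
    have h3 : Nat.card (Sylow 3 G) ≠ 1 := fun e => hnot T (by
      haveI := (Nat.card_eq_one_iff_unique.mp e).1
      exact T.normal_of_subsingleton)
    have h4 := Nat.le_of_dvd (by norm_num) h1
    rw [Nat.ModEq] at h2
    interval_cases h : Nat.card (Sylow 3 G) <;> omega
  let φ : G →* Equiv.Perm (Sylow 3 G) := MulAction.toPermHom G (Sylow 3 G)
  have hinj : Function.Injective φ := by
    rw [← MonoidHom.ker_eq_bot_iff]
    by_contra hne
    obtain ⟨T', hT'⟩ := hker φ.ker inferInstance hne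
    exact hT' fun x hx => Sylow.smul_eq_iff_mem_normalizer.mp
      (Equiv.ext_iff.mp (MonoidHom.mem_ker.mp hx) T')
  haveI := Fintype.ofFinite (Sylow 3 G)
  have e : Sylow 3 G ≃ Fin 4 := (Fintype.equivFin _).trans (finCongr (by
    rw [← Nat.card_eq_fintype_card, hn4]))
  have hbij : Function.Bijective φ := (Nat.bijective_iff_injective_and_card φ).mpr
    ⟨hinj, by rw [hcard, Nat.card_perm, hn4]; rfl⟩
  exact ⟨(MulEquiv.ofBijective φ hbij).trans (Equiv.permCongrHom e)⟩

/-- Partitions of groups with an abelian minimal normal subgroup. -/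
theorem abelian_main (P : NPart G) {V : Subgroup G} {p : ℕ} [hp : Fact p.Prime]
    (hV : CfsgLib.MinNormal.IsMinNormal V) (hab : ∀ x ∈ V, ∀ y ∈ V, Commute x y)
    (hVp : ∀ x ∈ V, x ^ p = 1) :
    HughesProper G ∨ HasFrobenius G ∨ Nonempty (G ≃* Equiv.Perm (Fin 4)) := by
  classical
  haveI := hV.normal
  obtain ⟨v0, hv0, hv01⟩ := (Subgroup.bot_or_exists_ne_one V).resolve_left hV.ne_bot
  by_cases hnc : ∀ x : G, x ≠ 1 → ¬ V ≤ P.comp x
  swap
  · push Not at hnc
    obtain ⟨x, hx1, hxV⟩ := hnc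
    have hY : P.comp v0 = P.comp x := P.comp_eq x v0 hx1 (hxV hv0) hv01
    have hXn : (P.comp x).Normal := by
      refine ⟨fun y hy g => ?_⟩
      have := P.conj_mem g v0 y hv01 (hY.symm ▸ hy)
      rwa [P.comp_eq x _ hx1 (hxV (hV.normal.conj_mem v0 hv0 g)) (conj_ne_one hv01)] at this
    rcases NormalComp.main hXn (fun y hy hy1 => P.comp_eq x y hx1 hy hy1)
      (fun e => hx1 (Subgroup.mem_bot.mp (e ▸ P.mem_comp x hx1))) with h | h
    · exact Or.inl h
    · exact Or.inr (Or.inl h)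
  haveI : Nontrivial G := ⟨⟨v0, 1, hv01⟩⟩
  by_cases hpG : IsPGroup p G
  · exact Or.inl (hughesProper_of_isPGroup P hpG)
  by_cases hexp : ∀ g : G, (∃ k, orderOf g = p ^ k) → g ^ p = 1
  · -- all `p`-elements have order `p`: there is a normal Sylow `p`-subgroup
    letI : CommGroup V := { (inferInstance : Group V) with
      mul_comm := fun a b => Subtype.ext (hab _ a.2 _ b.2).eq }
    have hF : FixHyp p (MulAut.conjNormal : G →* MulAut V) := by
      refine ⟨⟨⟨v0, hv0⟩, fun e => hv01 (congrArg Subtype.val e)⟩,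
        fun z => Subtype.ext (by rw [SubgroupClass.coe_pow]; exact hVp z z.2),
        fun q hq => exists_pow_of_dvd P hV hab hVp hnc hq, ?_, ?_⟩
      · intro q hq1 hq z hfix
        by_contra hz
        exact not_commute_of_not_dvd P hV hab hVp hnc z.2 (fun e => hz (Subtype.ext e)) hq1 hq
          (mul_inv_eq_iff_eq_mul.mp ((MulAut.conjNormal_apply q z).symm.trans (congrArg Subtype.val hfix)))
      · intro q hq z
        refine Subtype.ext ?_
        have hprod : ∀ n : ℕ, ((∏ i ∈ Finset.range n, MulAut.conjNormal (q ^ i) z : V) : G) =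
            ((z : G) * q) ^ n * (q ^ n)⁻¹ := by
          intro n
          induction n with
          | zero => simp
          | succ n ih =>
            rw [Finset.prod_range_succ, Subgroup.coe_mul, ih, MulAut.conjNormal_apply,
              pow_succ ((z : G) * q), pow_succ q]
            group
        rw [hprod, OneMemClass.coe_one, hexp q hq, inv_one, mul_one]
        refine hexp _ ?_
        obtain ⟨k, hk⟩ := hq
        have h1 : ((z : G) * q) ^ p ^ k ∈ V := by
          have h2 := SetLike.coe_mem (∏ i ∈ Finset.range (p ^ k), MulAut.conjNormal (q ^ i) z : V)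
          rwa [hprod, ← hk, pow_orderOf_eq_one, inv_one, mul_one, hk] at h2
        have h3 : ((z : G) * q) ^ p ^ (k + 1) = 1 := by rw [pow_succ, pow_mul]; exact hVp _ h1
        obtain ⟨j, -, hj⟩ := (Nat.dvd_prime_pow hp.out).mp (orderOf_dvd_of_pow_eq_one h3)
        exact ⟨j, hj⟩
    obtain ⟨K, hKn, hK⟩ := hF.exists_normal
    haveI := hKn
    have hKtop : K ≠ ⊤ := fun e => hpG (IsPGroup.iff_orderOf.mpr fun g => (hK g).mp (e ▸ Subgroup.mem_top g))
    have hK1 : K ≠ ⊥ := fun e => hv01 (Subgroup.mem_bot.mp (e ▸ (hK v0).mpr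
      ⟨1, by rw [pow_one, orderOf_eq_of_mem hVp hv0 hv01]⟩))
    refine Or.inr (Or.inl (exists_frobenius_of_fpf K hK1 hKtop fun g hg k hk hc => ?_))
    by_contra hk1
    have hgd : ¬ p ∣ orderOf g := fun hd => hg ((hK g).mpr (exists_pow_of_dvd P hV hab hVp hnc hd))
    obtain ⟨j, hj⟩ := (hK k).mp hk
    have hj0 : p ∣ p ^ j := dvd_pow_self p fun e => hk1 (orderOf_eq_one_iff.mp (by rw [hj, e, pow_zero]))
    have hcop : (orderOf g).Coprime (p ^ j) :=
      ((hp.out.coprime_iff_not_dvd.mpr hgd).symm).pow_right j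
    have hord := hc.orderOf_mul_eq_mul_orderOf_of_coprime (hj ▸ hcop)
    obtain ⟨i, hi⟩ := exists_pow_of_dvd P hV hab hVp hnc (g := g * k)
      (hord ▸ (hj ▸ hj0 : p ∣ orderOf k).mul_left _)
    have hdd : orderOf g ∣ p ^ i := hi ▸ hord ▸ dvd_mul_right _ _
    exact hg ((Nat.eq_one_of_dvd_one
      (((hp.out.coprime_iff_not_dvd.mpr hgd).symm.pow_right i).gcd_eq_one ▸ Nat.dvd_gcd dvd_rfl hdd) |>
        orderOf_eq_one_iff.mp) ▸ one_mem K)
  push Not at hexp
  obtain ⟨g, ⟨k, hgk⟩, hgp⟩ := hexp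
  have hg1 : g ≠ 1 := fun e => hgp (by rw [e, one_pow])
  set Y := P.comp g with hY
  obtain ⟨u, hu, hu1, hcu⟩ := exists_fixed_ne_one (a := g) (k := k) hV.ne_bot hVp
    (hgk ▸ pow_orderOf_eq_one g)
  have huY : u ∈ Y := by
    by_contra h
    obtain ⟨-, ho⟩ := P.eq_orderOf hg1 hu1 hcu h
    rw [orderOf_eq_of_mem hVp hu hu1] at ho
    exact hgp (by rw [ho, pow_orderOf_eq_one])
  have hcompu : P.comp u = Y := P.comp_eq g u hg1 huY hu1
  obtain ⟨v, hv, hvY⟩ := SetLike.not_le_iff_exists.mp (hnc g hg1)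
  have hnorV : V ≤ Subgroup.normalizer (Y : Set G) := fun x hx =>
    P.mem_normalizer_of_commute hg1 huY hu1 (hab x hx u hu)
  obtain ⟨hp2, hg2V, -⟩ := P.outside_comp hgp V hV.normal hab hVp hnorV v hv hvY
  subst hp2
  -- the centraliser of `V` is `V` of order four
  set W : Subgroup G := Subgroup.centralizer (V : Set G) with hW
  have hWmem : ∀ w ∈ W, ∀ x ∈ V, Commute w x := fun w hw x hx =>
    (Subgroup.mem_centralizer_iff.mp hw x hx).symm
  have hWp : ∀ w ∈ W, w ^ 2 = 1 := fun w hw =>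
    centralizer_pow_eq_one P hVp hnc (hWmem w hw)
  have hWc : ∀ a ∈ W, ∀ b ∈ W, Commute a b := fun a ha b hb => by
    have e : ∀ x ∈ W, x⁻¹ = x := fun x hx => inv_eq_of_mul_eq_one_right (by rw [← pow_two]; exact hWp x hx)
    calc a * b = (a * b)⁻¹ := (e _ (mul_mem ha hb)).symm
      _ = b * a := by rw [mul_inv_rev, e a ha, e b hb]
  have hVW : V ≤ W := fun x hx => Subgroup.mem_centralizer_iff.mpr fun y hy => (hab y hy x hx).eq
  have hWn : W.Normal := Subgroup.normal_centralizer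
  have hnorW : W ≤ Subgroup.normalizer (Y : Set G) := fun x hx =>
    P.mem_normalizer_of_commute hg1 huY hu1 (hWmem x hx u hu)
  obtain ⟨h0, hh0⟩ : ∃ h : G, h * u * h⁻¹ ∉ Y := by
    by_contra hcon
    push Not at hcon
    have hYn : Y.Normal := Subgroup.normalizer_eq_top_iff.mp
      (top_le_iff.mp fun x _ => P.mem_normalizer hg1 huY hu1 (hcon x))
    haveI := hYn
    have h1 : V ⊓ Y ≠ ⊥ := fun e => hu1 (Subgroup.mem_bot.mp (e ▸ Subgroup.mem_inf.mpr ⟨hu, huY⟩))
    exact hvY ((hV.eq_of_le inferInstance h1 inf_le_left).symm ▸ hv : v ∈ V ⊓ Y).2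
  have hu' := conj_ne_one (g := h0) hu1
  have hone : ∀ x ∈ W, x ∈ Y → x ≠ 1 → x = u := by
    intro x hx hxY hx1
    have hmem : ∀ y ∈ W, y ∈ Y → y ≠ 1 → h0 * y * h0⁻¹ ∉ Y := fun y _ hyY hy1 hbad => hh0 (by
      have h1 := P.conj_mem h0 u y hu1 (hcompu.symm ▸ hyY)
      have h2 := P.eq_of_mem_both hu' hg1 (conj_ne_one hy1) h1 hbad
      rw [hY, ← h2]; exact P.mem_comp _ hu')
    obtain ⟨-, -, hpair⟩ := P.outside_comp hgp W hWn hWc hWp hnorW _
      (hWn.conj_mem x hx h0) (hmem x hx hxY hx1)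
    have h3 := hpair _ (hWn.conj_mem u (hVW hu) h0) (hmem u (hVW hu) huY hu1)
    by_contra hne
    refine hh0 ?_
    have h4 : h0 * x * h0⁻¹ * (h0 * u * h0⁻¹) = h0 * (x * u) * h0⁻¹ := by group
    rw [h4] at h3
    have hxu : x * u ≠ 1 := fun e => hne (by
      rw [mul_eq_one_iff_eq_inv] at e
      rw [e, inv_eq_of_mul_eq_one_right (by rw [← pow_two]; exact hVp u hu)])
    exact absurd h3 (hmem _ (mul_mem hx (hVW hu)) (mul_mem hxY huY) hxu)
  have hvu : v * u ∈ V := mul_mem hv hu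
  have hWset : ∀ w ∈ W, w = 1 ∨ w = u ∨ w = v ∨ w = v * u := by
    intro w hw
    by_cases hwY : w ∈ Y
    · by_cases hw1 : w = 1
      · exact Or.inl hw1
      · exact Or.inr (Or.inl (hone w hw hwY hw1))
    obtain ⟨-, -, hpair⟩ := P.outside_comp hgp W hWn hWc hWp hnorW v (hVW hv) hvY
    have h1 := hpair w hw hwY
    have hvi : v⁻¹ = v := inv_eq_of_mul_eq_one_right (by rw [← pow_two]; exact hVp v hv)
    by_cases h2 : v * w = 1
    · exact Or.inr (Or.inr (Or.inl (by rw [← hvi]; exact eq_inv_of_mul_eq_one_right h2)))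
    · refine Or.inr (Or.inr (Or.inr ?_))
      calc w = v⁻¹ * (v * w) := by group
        _ = v * u := by rw [hvi, hone _ (mul_mem (hVW hv) hw) h1 h2]
  have hWV : W = V := le_antisymm (fun w hw => by
    rcases hWset w hw with e | e | e | e <;> rw [e]
    exacts [one_mem V, hu, hv, hvu]) hVW
  have hv1 : v ≠ 1 := fun e => hvY (e ▸ one_mem _)
  have hVset : (V : Set G) = ↑({1, u, v, v * u} : Finset G) := by
    ext x
    simp only [SetLike.mem_coe, Finset.coe_insert, Finset.coe_singleton, Set.mem_insert_iff,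
      Set.mem_singleton_iff]
    refine ⟨fun hx => hWset x (hVW hx), ?_⟩
    rintro (rfl | rfl | rfl | rfl)
    exacts [one_mem V, hu, hv, hvu]
  have hV4 : Nat.card V = 4 := by
    have h1 : Nat.card V = ({1, u, v, v * u} : Finset G).card := by
      rw [← SetLike.coe_sort_coe, hVset, Nat.card_coe_set_eq, Set.ncard_coe_finset]
    rw [h1, Finset.card_eq_succ]
    refine ⟨1, {u, v, v * u}, ?_, rfl, ?_⟩
    · simp only [Finset.mem_insert, Finset.mem_singleton]
      rintro (e | e | e)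
      · exact hu1 e.symm
      · exact hv1 e.symm
      · exact hvY (by rw [eq_inv_of_mul_eq_one_left e.symm]; exact inv_mem huY)
    · rw [Finset.card_eq_three]
      refine ⟨u, v, v * u, fun e => hvY (e ▸ huY), fun e => hv1 (mul_eq_right.mp e.symm), fun e => hu1 (mul_eq_left.mp e.symm), rfl⟩
  have hle : V.index ≤ 6 := by
    let ψ : G →* Equiv.Perm {x : V // x ≠ 1} :=
      { toFun := fun x => (MulAut.conjNormal x : MulAut V).toEquiv.subtypeEquiv (fun a => by simp)
        map_one' := by ext; simp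
        map_mul' := fun a b => by ext; simp [mul_assoc] }
    have hker : ψ.ker ≤ V := by
      intro x hx
      rw [← hWV, hW, Subgroup.mem_centralizer_iff]
      intro y hy
      by_cases hy1 : y = 1
      · rw [hy1, one_mul, mul_one]
      have h1 := congrArg (fun a : {x : V // x ≠ 1} => ((a : V) : G))
        (Equiv.ext_iff.mp (MonoidHom.mem_ker.mp hx) ⟨⟨y, hy⟩, fun e => hy1 (congrArg Subtype.val e)⟩)
      simp only [Equiv.Perm.coe_one, id_eq] at h1
      have h2 : x * y * x⁻¹ = y := h1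
      exact (mul_inv_eq_iff_eq_mul.mp h2).symm
    have h1 : V.index ∣ ψ.ker.index := Subgroup.index_dvd_of_le hker
    haveI := Fintype.ofFinite V
    have h2 : ψ.ker.index ≤ 6 := by
      rw [Subgroup.index_ker]
      refine (Finite.card_subtype_le _).trans ?_
      rw [Nat.card_perm, show Nat.card {x : V // x ≠ 1} = 3 from ?_]
      · rfl
      rw [Nat.card_eq_fintype_card, Fintype.card_subtype_compl, Fintype.card_subtype_eq,
        ← Nat.card_eq_fintype_card, hV4]
    exact (Nat.le_of_dvd (Nat.pos_of_ne_zero Subgroup.index_ne_zero_of_finite) h1).trans h2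
  have hcardG : Nat.card G = 4 * V.index := by rw [← V.card_mul_index, hV4]
  have h2i : 2 ∣ V.index := by
    have hgV : g ∉ V := fun h => hgp (hVp g h)
    have h1 : orderOf (g : G ⧸ V) = 2 := orderOf_eq_prime
      (by rw [← QuotientGroup.mk_pow]; exact (QuotientGroup.eq_one_iff _).mpr hg2V)
      (fun e => hgV ((QuotientGroup.eq_one_iff g).mp e))
    rw [Subgroup.index_eq_card]
    exact h1 ▸ orderOf_dvd_natCard _
  have hG24 : Nat.card G = 24 := by
    have h0 : V.index ≠ 0 := Subgroup.index_ne_zero_of_finite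
    by_contra hne
    refine hpG (IsPGroup.of_card (n := if V.index = 2 then 3 else 4) ?_)
    rw [hcardG] at hne ⊢
    obtain ⟨c, hc⟩ := h2i
    have : c = 1 ∨ c = 2 := by omega
    rcases this with rfl | rfl <;> simp [hc]
  refine Or.inr (Or.inr (nonempty_perm_of_card hG24 ?_ ?_))
  all_goals haveI : Fact (Nat.Prime 3) := ⟨Nat.prime_three⟩
  · intro K hKn hK1
    obtain ⟨T⟩ : Nonempty (Sylow 3 G) := inferInstance
    refine ⟨T, fun hle' => ?_⟩
    have hVK : V ≤ K := by
      by_contra hn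
      have h1 := hV.le_centralizer_of_not_le hKn hn
      rw [← hW, hWV] at h1
      exact hn (le_of_eq (hV.eq_of_le hKn hK1 h1).symm)
    obtain ⟨t, ht⟩ := exists_prime_orderOf_dvd_card' 3 (G := T)
      (T.dvd_card_of_dvd_card (by rw [hG24]; norm_num))
    have ht1 : (t : G) ≠ 1 := fun e => by
      rw [← Subgroup.orderOf_coe, e, orderOf_one] at ht; norm_num at ht
    have h1 : (t : G) * v * (t : G)⁻¹ * v⁻¹ ∈ (T : Subgroup G) ⊓ V := ⟨by
      rw [show (t : G) * v * (t : G)⁻¹ * v⁻¹ = (t : G) * (v * (t : G)⁻¹ * v⁻¹) by group]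
      exact mul_mem t.2 ((Subgroup.mem_normalizer_iff.mp (hle' (hVK hv)) _).mp ((T : Subgroup G).inv_mem t.2)),
      V.mul_mem (hV.normal.conj_mem v hv _) (V.inv_mem hv)⟩
    have hdis : (T : Subgroup G) ⊓ V = ⊥ := disjoint_iff.mp <| Subgroup.disjoint_of_coprime_natCard (by
      obtain ⟨n, hn⟩ := IsPGroup.iff_card.mp T.isPGroup'
      rw [hn, hV4]
      exact Nat.Coprime.pow_left n (by norm_num))
    rw [hdis, Subgroup.mem_bot, mul_inv_eq_one, mul_inv_eq_iff_eq_mul] at h1
    exact not_commute_of_not_dvd P hV hab hVp hnc hv hv1 ht1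
      (by rw [Subgroup.orderOf_coe, ht]; norm_num) h1
  · intro T hTn
    obtain ⟨t, ht⟩ := exists_prime_orderOf_dvd_card' 3 (G := T)
      (T.dvd_card_of_dvd_card (by rw [hG24]; norm_num))
    have ht1 : (t : G) ≠ 1 := fun e => by
      rw [← Subgroup.orderOf_coe, e, orderOf_one] at ht; norm_num at ht
    have hdis : (T : Subgroup G) ⊓ V = ⊥ := disjoint_iff.mp <| Subgroup.disjoint_of_coprime_natCard (by
      obtain ⟨n, hn⟩ := IsPGroup.iff_card.mp T.isPGroup'
      rw [hn, hV4]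
      exact Nat.Coprime.pow_left n (by norm_num))
    exact not_commute_of_not_dvd P hV hab hVp hnc hv hv1 ht1
      (by rw [Subgroup.orderOf_coe, ht]; norm_num)
      (Subgroup.commute_of_normal_of_disjoint _ V hTn hV.normal (disjoint_iff.mpr hdis) _ _ t.2 hv)

end CfsgLib.Partition8
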