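import Cfsg.Agent.Partition8.Semi
import Cfsg.Agent.RankOneSemisimple.Tools
import Cfsg.Agent.LocalCharP.Family
import Cfsg.Agent.NilProd.Setup
import Cfsg.Agent.StronglyEmbedded.Basic
import Cfsg.Agent.Dickson.Torus
import Cfsg.Agent.StrongEmb.RankOne
import Cfsg.Agent.CAGroups.SimpleAbelianCentralizers
import Cfsg.Agent.Classical.Linear.Card
import Cfsg.Agent.CIT.SimpleFacts
import Cfsg.Agent.S0144
import Cfsg.Agent.S0508

/-!
Partitions without solvable normal subgroup with a central involution whose centraliser is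
generalised dihedral over its component: a normal subgroup `PSL₂(q)`, `q` odd, of index at most two.
-/

set_option autoImplicit false
set_option maxHeartbeats 1600000

namespace CfsgLib.Partition8

variable {G : Type*} [Group G] [Finite G] {P : NPart G}

/-- The 2-part of a nilpotent subgroup, normalised by its normaliser. -/
theorem exists_twoPart (X : Subgroup G) (hX : Group.IsNilpotent X) :
    ∃ M : Subgroup G, M ≤ X ∧ IsPGroup 2 M ∧ (∀ x ∈ X, (∃ k, orderOf x = 2 ^ k) → x ∈ M) ∧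
      Subgroup.normalizer (X : Set G) ≤ Subgroup.normalizer (M : Set G) := by
  haveI : Fact (Nat.Prime 2) := ⟨Nat.prime_two⟩
  obtain ⟨Q⟩ : Nonempty (Sylow 2 X) := inferInstance
  have hQn : (Q : Subgroup X).Normal :=
    (List.TFAE.out (Group.isNilpotent_of_finite_tfae (G := X)) 0 3 rfl rfl).mp hX 2 inferInstance Q
  have hmem : ∀ x ∈ X, (∃ k, orderOf x = 2 ^ k) → x ∈ (Q : Subgroup X).map X.subtype := by
    rintro x hx ⟨k, hk⟩
    refine ⟨⟨x, hx⟩, ?_, rfl⟩
    haveI := hQn
    have hp : IsPGroup 2 (Subgroup.zpowers (⟨x, hx⟩ : X)) :=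
      IsPGroup.of_card (n := k) (by rw [Nat.card_zpowers, Subgroup.orderOf_mk, hk])
    exact (Q.3 (hp.to_sup_of_normal_right Q.isPGroup') le_sup_right) ▸
      Subgroup.mem_sup_left (Subgroup.mem_zpowers _)
  refine ⟨_, Subgroup.map_subtype_le _, Q.isPGroup'.map _, hmem, fun g hg => ?_⟩
  refine Subgroup.mem_normalizer_fintype fun s hs => ?_
  refine hmem _ ((Subgroup.mem_normalizer_iff.mp hg s).mp (Subgroup.map_subtype_le _ hs)) ?_
  rw [CfsgLib.StronglyEmbedded.orderOf_conj]
  exact CfsgLib.NilProd.orderOf_pow_of_mem (Q.isPGroup'.map _) hs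

/-- An element with powers of coprime exponents in a subgroup lies in it. -/
theorem mem_of_coprime_pows {H : Subgroup G} {x : G} {a b : ℕ} (hab : a.Coprime b) (ha : x ^ a ∈ H)
    (hb : x ^ b ∈ H) : x ∈ H := by
  have h := Nat.gcd_eq_gcd_ab a b
  rw [hab.gcd_eq_one] at h
  rw [← zpow_one x, show (1 : ℤ) = (a : ℤ) * Nat.gcdA a b + (b : ℤ) * Nat.gcdB a b by exact_mod_cast h,
    zpow_add, zpow_mul, zpow_mul, zpow_natCast, zpow_natCast]
  exact mul_mem (zpow_mem ha _) (zpow_mem hb _)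

/-- A central involution with generalised dihedral centraliser. -/
structure Dih (P : NPart G) (T : Sylow 2 G) (t y a : G) : Prop where
  semi : Semi P
  ht : orderOf t = 2
  htc : ∀ s ∈ (T : Subgroup G), Commute s t
  hyT : y ∈ (T : Subgroup G)
  hy : y ∉ P.comp t
  hat : Commute a t
  ha : a ∈ P.comp t
  ha2 : a * a ≠ 1
  hout : ∀ c, Commute c t → c ∉ P.comp t → y * c ∈ P.comp t

theorem Semi.exists_dih (hS : Semi P) (T : Sylow 2 G) {t y a : G} (ht : orderOf t = 2)
    (htc : ∀ s ∈ (T : Subgroup G), Commute s t) (hyt : Commute y t) (hy : y ∉ P.comp t)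
    (hat : Commute a t) (ha : a ∈ P.comp t) (ha2 : a * a ≠ 1)
    (hout : ∀ c, Commute c t → c ∉ P.comp t → y * c ∈ P.comp t) : ∃ y', Dih P T t y' a := by
  haveI : Fact (Nat.Prime 2) := ⟨Nat.prime_two⟩
  by_cases h : ∀ s ∈ (T : Subgroup G), s ∈ P.comp t
  · exfalso
    have ht1 := Semi.ne_one_of_two ht
    obtain ⟨M, hMX, hM2, hmem, hN⟩ := exists_twoPart _ (hS.isNilpotent ht1)
    have hTM : (T : Subgroup G) ≤ M := fun s hs =>
      hmem s (h s hs) (CfsgLib.NilProd.orderOf_pow_of_mem T.isPGroup' hs)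
    obtain ⟨hyN, hy2⟩ := Semi.centralizer_facts (P := P) ht hyt
    have hp : IsPGroup 2 (Subgroup.zpowers y) :=
      IsPGroup.of_card (n := 1) (by rw [Nat.card_zpowers, hy2 hy, pow_one])
    have h1 := hp.to_sup_of_normal_right' hM2 (Subgroup.zpowers_le.mpr (hN hyN))
    have h2 := T.3 h1 (hTM.trans le_sup_right)
    exact hy (h y (h2 ▸ Subgroup.mem_sup_left (Subgroup.mem_zpowers y)))
  push Not at h
  obtain ⟨y', hy'T, hy'⟩ := h
  refine ⟨y', hS, ht, htc, hy'T, hy', hat, ha, ha2, fun c hct hc => ?_⟩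
  have h1 := hout y' (htc y' hy'T) hy'
  have h2 := hout c hct hc
  have e : y' * c = (y * y')⁻¹ * (y * c) := by
    rw [mul_inv_rev, inv_eq_of_mul_eq_one_right (Semi.sq_eq_one_of_outside ht (htc y' hy'T) hy'),
      inv_eq_of_mul_eq_one_right (Semi.sq_eq_one_of_outside ht hyt hy)]
    rw [show y' * y * (y * c) = y' * (y * y) * c by group, Semi.sq_eq_one_of_outside ht hyt hy, mul_one]
  exact e ▸ mul_mem (inv_mem h1) h2

namespace Dih

variable {T : Sylow 2 G} {t y a : G} (h : Dih P T t y a)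
include h

theorem t_ne : t ≠ 1 := Semi.ne_one_of_two h.ht

theorem yt : Commute y t := h.htc y h.hyT

theorem y_sq : y * y = 1 := Semi.sq_eq_one_of_outside h.ht h.yt h.hy

theorem y_two : orderOf y = 2 := (Semi.centralizer_facts (P := P) h.ht h.yt).2 h.hy

theorem t_mem : t ∈ (T : Subgroup G) := by
  haveI : Fact (Nat.Prime 2) := ⟨Nat.prime_two⟩
  have hp : IsPGroup 2 (Subgroup.zpowers t) :=
    IsPGroup.of_card (n := 1) (by rw [Nat.card_zpowers, h.ht, pow_one])
  have h1 := T.isPGroup'.to_sup_of_normal_right' hp (fun s hs => ?_)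
  · exact T.3 h1 le_sup_left ▸ Subgroup.mem_sup_right (Subgroup.mem_zpowers t)
  · refine Subgroup.mem_normalizer_fintype fun x hx => ?_
    obtain ⟨i, rfl⟩ := hx
    exact ⟨i, by simp only; rw [((h.htc s hs).zpow_right i).eq, mul_inv_cancel_right]⟩

theorem exp_two_of_outside {u w : G} (hu : orderOf u = 2) (hut : Commute u t) (huX : u ∉ P.comp t)
    (hw : orderOf w = 2) (hwX : w ∈ P.comp t) (hwt : Commute w t) (hne : w ≠ t) :
    ∀ c, Commute c u → c * c = 1 := by
  have hu1 := Semi.ne_one_of_two hu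
  have hout : ∀ z, z ∈ P.comp t → z ≠ 1 → z ∉ P.comp u := fun z hz hz1 hzu => by
    have e := P.eq_of_mem_both h.t_ne hu1 hz1 hz hzu
    exact huX (e ▸ P.mem_comp u hu1)
  have htu := hout t (P.mem_comp t h.t_ne) h.t_ne
  have hwu := hout w hwX (Semi.ne_one_of_two hw)
  have huw : Commute w u := by
    have h1 := Semi.inverts h.ht hut huX hwt hwX
    rw [CfsgLib.StronglyEmbedded.inv_eq_self hw] at h1
    exact (mul_inv_eq_iff_eq_mul.mp h1).symm
  rcases Semi.centralizer_cases (P := P) hu with h1 | h1 | ⟨v, -, -, -, -, -, -, h1⟩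
  · exact absurd (h1 t hut.symm) htu
  · exact h1
  · exfalso
    have e := mul_mem (inv_mem (h1 t hut.symm htu)) (h1 w huw hwu)
    rw [show (v * t)⁻¹ * (v * w) = t⁻¹ * w by group] at e
    refine hout _ (mul_mem (inv_mem (P.mem_comp t h.t_ne)) hwX) (fun e' => hne ?_) e
    exact (inv_mul_eq_one.mp e').symm

/-- `t` is the only involution of `T` in its component. -/
theorem unique_involution {w : G} (hwT : w ∈ (T : Subgroup G)) (hwX : w ∈ P.comp t)
    (hw : orderOf w = 2) : w = t := by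
  haveI : Fact (Nat.Prime 2) := ⟨Nat.prime_two⟩
  by_contra hne
  have hexp : ∀ u, orderOf u = 2 → Commute u t → u ∉ P.comp t → ∀ c, Commute c u → c * c = 1 :=
    fun u hu hut huX => h.exp_two_of_outside hu hut huX hw hwX (h.htc w hwT) hne
  have hconj : ∀ g c, Commute c (g * y * g⁻¹) → c * c = 1 := by
    intro g c hc
    have h1 := hexp y h.y_two h.yt h.hy (g⁻¹ * c * g)
      (by
        have := hc.map (MulAut.conj g⁻¹).toMonoidHom
        simpa [mul_assoc] using this)
    rw [show g⁻¹ * c * g * (g⁻¹ * c * g) = g⁻¹ * (c * c) * g by group] at h1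
    calc c * c = g * (g⁻¹ * (c * c) * g) * g⁻¹ := by group
      _ = 1 := by rw [h1]; group
  set H := Subgroup.normalizer (P.comp t : Set G) with hH
  suffices key : ∀ u : G, orderOf u = 2 → (∀ c, Commute c u → c * c = 1) → u ∈ H by
    have hN : ∀ g : G, g * y * g⁻¹ ∈ H := fun g =>
      key _ (by rw [CfsgLib.StronglyEmbedded.orderOf_conj, h.y_two]) (hconj g)
    set K := Subgroup.normalClosure ({y} : Set G) with hK
    have hKH : K ≤ H := by
      refine (Subgroup.closure_le _).mpr fun v hv => ?_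
      obtain ⟨b, hb, hcj⟩ := Group.mem_conjugatesOfSet_iff.mp hv
      obtain ⟨g, rfl⟩ := isConj_iff.mp hcj
      rw [Set.mem_singleton_iff] at hb
      exact hb ▸ hN g
    have hKn : K.Normal := Subgroup.normalClosure_normal
    haveI := h.semi.isNilpotent h.t_ne
    have hR : P.comp t ⊓ K = ⊥ := by
      refine h.semi.eq_bot_of_normal_normal hKn inf_le_right ⟨fun r hr k => Subgroup.mem_subgroupOf.mpr ?_⟩
        (Group.nilpotent_of_mulEquiv (Subgroup.subgroupOfEquivOfLe (inf_le_left : P.comp t ⊓ K ≤ P.comp t)))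
      rw [Subgroup.mem_subgroupOf] at hr
      rw [Subgroup.coe_mul, Subgroup.coe_mul, Subgroup.coe_inv]
      exact ⟨(Subgroup.mem_normalizer_iff.mp (hKH k.2) _).mp hr.1, hKn.conj_mem _ hr.2 _⟩
    have hyK : y ∈ K := Subgroup.subset_normalClosure (Set.mem_singleton y)
    have h1 : y * a * y⁻¹ * a⁻¹ = 1 := by
      rw [← Subgroup.mem_bot, ← hR]
      refine ⟨?_, ?_⟩
      · rw [Semi.inverts h.ht h.yt h.hy h.hat h.ha]
        exact (P.comp t).mul_mem ((P.comp t).inv_mem h.ha) ((P.comp t).inv_mem h.ha)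
      · rw [show y * a * y⁻¹ * a⁻¹ = y * (a * y⁻¹ * a⁻¹) by group]
        exact mul_mem hyK (hKn.conj_mem _ (inv_mem hyK) a)
    rw [Semi.inverts h.ht h.yt h.hy h.hat h.ha, ← mul_inv_rev, inv_eq_one] at h1
    exact h.ha2 h1
  intro u hu2 hcu
  by_cases hodd : Odd (orderOf (t * u))
  · exfalso
    obtain ⟨x, -, hx⟩ := CfsgLib.StronglyEmbedded.exists_zpowers_conj_of_odd h.ht hu2 hodd
    have hc : Commute (x * a * x⁻¹) u := hx ▸ h.hat.map (MulAut.conj x).toMonoidHom
    have h1 := hcu _ hc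
    rw [show x * a * x⁻¹ * (x * a * x⁻¹) = x * (a * a) * x⁻¹ by group, conj_eq_one_iff] at h1
    exact h.ha2 h1
  set z := (t * u) ^ (orderOf (t * u) / 2) with hz
  have hz2 : orderOf z = 2 := orderOf_pow_orderOf_div (orderOf_pos _).ne'
    (even_iff_two_dvd.mp (Nat.not_odd_iff_even.mp hodd))
  have hzz : z⁻¹ = z := CfsgLib.StronglyEmbedded.inv_eq_self hz2
  have ht' := CfsgLib.StronglyEmbedded.inv_eq_self h.ht
  have hu' := CfsgLib.StronglyEmbedded.inv_eq_self hu2
  have hzt : Commute z t := by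
    have e : t * z * t⁻¹ = z := by
      rw [hz, ← conj_pow, show t * (t * u) * t⁻¹ = (t * u)⁻¹ by
        rw [mul_inv_rev, ht', hu']
        calc t * (t * u) * t = t * t * u * t := by group
          _ = u * t := by rw [CfsgLib.StronglyEmbedded.mul_self_eq_one h.ht, one_mul],
        inv_pow, ← hz, hzz]
    exact (mul_inv_eq_iff_eq_mul.mp e).symm
  have hzu : Commute z u := by
    have e : u * z * u⁻¹ = z := by
      rw [hz, ← conj_pow, show u * (t * u) * u⁻¹ = (t * u)⁻¹ by
        rw [mul_inv_rev, ht', hu', mul_assoc u, mul_assoc, CfsgLib.StronglyEmbedded.mul_self_eq_one hu2,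
          mul_one],
        inv_pow, ← hz, hzz]
    exact (mul_inv_eq_iff_eq_mul.mp e).symm
  by_cases hzX : z ∈ P.comp t
  · exact P.mem_normalizer_of_commute h.t_ne hzX (Semi.ne_one_of_two hz2) hzu.symm
  · have h1 := hexp z hz2 hzt hzX (t * u) (hzt.symm.mul_left hzu.symm)
    have hut : Commute u t := by
      show u * t = t * u
      rw [← inv_eq_of_mul_eq_one_right h1, mul_inv_rev, ht', hu']
    exact (Semi.centralizer_facts (P := P) h.ht hut).1

/-- Everything in the component of `t` centralises `t`. -/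
theorem commute_of_mem {x : G} (hx : x ∈ P.comp t) : Commute x t := by
  haveI : Fact (Nat.Prime 2) := ⟨Nat.prime_two⟩
  have hX := h.semi.isNilpotent h.t_ne
  obtain ⟨M, hMX, hM2, hmem, hN⟩ := exists_twoPart _ hX
  have hMT : M ≤ (T : Subgroup G) := by
    have hp : IsPGroup 2 (Subgroup.zpowers y) :=
      IsPGroup.of_card (n := 1) (by rw [Nat.card_zpowers, h.y_two, pow_one])
    have h1 := hp.to_sup_of_normal_right' hM2
      (Subgroup.zpowers_le.mpr (hN (Semi.centralizer_facts (P := P) h.ht h.yt).1))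
    have hT : (T : Subgroup G) ≤ Subgroup.zpowers y ⊔ M := fun s hs => by
      by_cases hsX : s ∈ P.comp t
      · exact Subgroup.mem_sup_right (hmem s hsX (CfsgLib.NilProd.orderOf_pow_of_mem T.isPGroup' hs))
      · have e : s = y * (y * s) := by rw [← mul_assoc, h.y_sq, one_mul]
        rw [e]
        exact Subgroup.mul_mem_sup (Subgroup.mem_zpowers y) (hmem _ (h.hout s (h.htc s hs) hsX)
          (CfsgLib.NilProd.orderOf_pow_of_mem T.isPGroup' (mul_mem h.hyT hs)))
    exact (T.3 h1 hT) ▸ le_sup_right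
  obtain ⟨k, m, hm, e⟩ := Nat.exists_eq_two_pow_mul_odd (orderOf_pos x).ne'
  have hm2 : ¬ 2 ∣ m := fun h2 => (Nat.not_even_iff_odd.mpr hm) (even_iff_two_dvd.mpr h2)
  refine Subgroup.mem_centralizer_singleton_iff.mp (mem_of_coprime_pows (a := 2 ^ k) (b := m)
    (Nat.Coprime.pow_left k (Nat.prime_two.coprime_iff_not_dvd.mpr hm2)) ?_ ?_)
  · refine Subgroup.mem_centralizer_singleton_iff.mpr
      (CfsgLib.NilProd.commute_of_coprime hX (pow_mem hx _) (P.mem_comp t h.t_ne) ?_)
    rw [h.ht, orderOf_pow, e, Nat.gcd_eq_right (dvd_mul_right _ _),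
      Nat.mul_div_cancel_left _ (by positivity)]
    exact Nat.coprime_two_right.mpr hm
  · refine Subgroup.mem_centralizer_singleton_iff.mpr (h.htc _ (hMT (hmem _ (pow_mem hx _) ⟨k, ?_⟩)))
    rw [orderOf_pow, e, Nat.gcd_eq_right (dvd_mul_left _ _), Nat.mul_div_cancel _ hm.pos]

theorem inverts {s x : G} (hst : Commute s t) (hs : s ∉ P.comp t) (hx : x ∈ P.comp t) :
    s * x * s⁻¹ = x⁻¹ :=
  Semi.inverts h.ht hst hs (h.commute_of_mem hx) hx

theorem abelian {b c : G} (hb : b ∈ P.comp t) (hc : c ∈ P.comp t) : Commute b c := by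
  have e := h.inverts h.yt h.hy (mul_mem hb hc)
  rw [show y * (b * c) * y⁻¹ = y * b * y⁻¹ * (y * c * y⁻¹) by group, h.inverts h.yt h.hy hb,
    h.inverts h.yt h.hy hc, ← mul_inv_rev, inv_inj] at e
  exact e.symm

theorem involution_eq {w : G} (hw : w ∈ P.comp t) (hw2 : orderOf w = 2) : w = t := by
  haveI : Fact (Nat.Prime 2) := ⟨Nat.prime_two⟩
  have hp : IsPGroup 2 (Subgroup.zpowers w) :=
    IsPGroup.of_card (n := 1) (by rw [Nat.card_zpowers, hw2, pow_one])
  refine h.unique_involution ?_ hw hw2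
  -- `T` normalises `zpowers w`, as it centralises or inverts it
  have h1 := T.isPGroup'.to_sup_of_normal_right' hp (fun s hs => ?_)
  · exact T.3 h1 le_sup_left ▸ Subgroup.mem_sup_right (Subgroup.mem_zpowers w)
  · have hc : Commute s w := by
      by_cases hsX : s ∈ P.comp t
      · exact h.abelian hsX hw
      · have e := h.inverts (h.htc s hs) hsX hw
        rw [CfsgLib.StronglyEmbedded.inv_eq_self hw2] at e
        exact mul_inv_eq_iff_eq_mul.mp e
    refine Subgroup.mem_normalizer_fintype fun x hx => ?_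
    obtain ⟨i, rfl⟩ := hx
    exact ⟨i, by simp only; rw [(hc.zpow_right i).eq, mul_inv_cancel_right]⟩

theorem commute_of_normalizer {g : G} (hg : g ∈ Subgroup.normalizer (P.comp t : Set G)) :
    Commute g t :=
  mul_inv_eq_iff_eq_mul.mp (h.involution_eq
    ((Subgroup.mem_normalizer_iff.mp hg t).mp (P.mem_comp t h.t_ne))
    (by rw [CfsgLib.StronglyEmbedded.orderOf_conj, h.ht]))

theorem isCyclic_two : IsCyclic ((T : Subgroup G) ⊓ P.comp t : Subgroup G) := by
  refine CfsgLib.RankOneSemisimple.isCyclic_of_unique_involution (T.isPGroup'.to_le inf_le_left)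
    (fun b hb c hc => (h.abelian hb.2 hc.2).eq) fun b hb c hc hb2 hc2 hb1 hc1 => ?_
  rw [h.unique_involution hb.1 hb.2 (CfsgLib.StronglyEmbedded.orderOf_two_iff.mpr ⟨hb2, hb1⟩),
    h.unique_involution hc.1 hc.2 (CfsgLib.StronglyEmbedded.orderOf_two_iff.mpr ⟨hc2, hc1⟩)]

/-- The normal subgroup `PSL₂(q)`. -/
theorem exists_psl : ∃ (N : Subgroup G) (F : Type) (_ : Field F) (_ : Fintype F),
    N.Normal ∧ t ∈ N ∧ N.index ≤ 2 ∧ Subgroup.centralizer (N : Set G) = ⊥ ∧ Odd (Fintype.card F) ∧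
      5 ≤ Fintype.card F ∧ Nonempty (N ≃* Matrix.ProjectiveSpecialLinearGroup (Fin 2) F) := by
  classical
  haveI : Fact (Nat.Prime 2) := ⟨Nat.prime_two⟩
  have hS := h.semi
  haveI : Nontrivial G := ⟨⟨t, 1, h.t_ne⟩⟩
  obtain ⟨N, hN⟩ := CfsgLib.MinNormal.exists_isMinNormal (G := G)
  haveI := hN.normal
  have hNns : ¬ Group.IsSolvable N := fun e => hN.ne_bot (hS.rad N hN.normal e)
  haveI : Nontrivial N := (Subgroup.nontrivial_iff_ne_bot N).mpr hN.ne_bot
  -- a subgroup of `N` centralising an involution of `N` is solvable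
  have hcs : ∀ (L : Subgroup N) (u : N), orderOf u = 2 → (∀ l ∈ L, Commute l u) → Group.IsSolvable L := by
    intro L u hu hl
    haveI := hS.isSolvable_centralizer (t := (u : G)) (by rw [Subgroup.orderOf_coe, hu])
    exact Group.isSolvable_of_isSolvable_injective
      (f := (N.subtype.comp L.subtype).codRestrict (Subgroup.centralizer ({(u : G)} : Set G)) fun l =>
        Subgroup.mem_centralizer_singleton_iff.mpr (congrArg Subtype.val (hl l l.2).eq))
      fun l l' e => Subtype.ext (Subtype.ext ((congrArg Subtype.val e :)))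
  haveI hsimple : IsSimpleGroup N := by
    obtain ⟨L, hL⟩ := CfsgLib.MinNormal.exists_isMinNormal (G := N)
    refine CfsgLib.MinNormal.isMinNormal_top_iff.mp ?_
    by_cases hall : ∀ g : G, L.map (MulAut.conjNormal g : MulAut N).toMonoidHom = L
    · have hn : (L.map N.subtype).Normal := by
        refine ⟨fun z hz g => ?_⟩
        obtain ⟨l, hl, rfl⟩ := hz
        exact ⟨MulAut.conjNormal g l, hall g ▸ ⟨l, hl, rfl⟩, MulAut.conjNormal_apply g l⟩
      have e := hN.eq_of_le hn (by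
        rw [Ne, Subgroup.map_eq_bot_iff_of_injective _ N.subtype_injective]; exact hL.ne_bot)
        (Subgroup.map_subtype_le _)
      have htop : L = ⊤ := Subgroup.map_injective N.subtype_injective
        (by rw [e, ← MonoidHom.range_eq_map, Subgroup.range_subtype])
      exact htop ▸ hL
    · exfalso
      push Not at hall
      obtain ⟨g, hg⟩ := hall
      have hL' := hL.map_mulEquiv (MulAut.conjNormal g : MulAut N)
      have heven : ¬ Odd (Nat.card (L.map (MulAut.conjNormal g : MulAut N).toMonoidHom)) := fun ho =>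
        hL'.ne_bot (hS.eq_bot_of_normal_solvable hN.normal hL'.normal (Cfsg.Agent.S0205.result ho))
      obtain ⟨u, hu⟩ := exists_prime_orderOf_dvd_card' 2
        (even_iff_two_dvd.mp (Nat.not_odd_iff_even.mp heven))
      exact hL.ne_bot (hS.eq_bot_of_normal_solvable hN.normal hL.normal
        (hcs L (u : N) (by rw [Subgroup.orderOf_coe, hu]) fun l hl =>
          hL.commute_of_ne hL' (fun e => hg e.symm) hl u.2))
  have hna : ¬ IsMulCommutative N := fun e => hNns (Group.isSolvable_of_comm fun a b => e.is_comm.comm a b)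
  have heven : Even (Nat.card N) := Nat.not_odd_iff_even.mp fun ho => hNns (Cfsg.Agent.S0205.result ho)
  obtain ⟨S, hSmap⟩ := CfsgLib.LocalCharP.Family.exists_sylow_eq_inf T hN.normal.isSubnormal
  have hSncyc : ¬ IsCyclic (S : Subgroup N) :=
    CfsgLib.CAGroups.not_isCyclic_sylow_of_simple hna heven S
  have hSmem : ∀ z : N, z ∈ (S : Subgroup N) ↔ (z : G) ∈ (T : Subgroup G) := fun z => by
    refine ⟨fun hz => (hSmap.le ⟨z, hz, rfl⟩).1, fun hz => ?_⟩
    obtain ⟨w, hw, hwz⟩ := hSmap.ge (Subgroup.mem_inf.mpr ⟨hz, z.2⟩)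
    rwa [show z = w from Subtype.ext hwz.symm]
  haveI hcyc := h.isCyclic_two
  obtain ⟨y1, hy1T, hy1N, hy1X⟩ : ∃ y1, y1 ∈ (T : Subgroup G) ∧ y1 ∈ N ∧ y1 ∉ P.comp t := by
    by_contra hcon
    push Not at hcon
    refine hSncyc (isCyclic_of_injective ((N.subtype.comp (S : Subgroup N).subtype).codRestrict
      ((T : Subgroup G) ⊓ P.comp t) fun z => ⟨(hSmem z).mp z.2, hcon _ ((hSmem z).mp z.2) (z : N).2⟩) ?_)
    intro z z' e
    exact Subtype.ext (Subtype.ext ((congrArg Subtype.val e :)))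
  have hy1t := h.htc y1 hy1T
  have hy1sq := Semi.sq_eq_one_of_outside h.ht hy1t hy1X
  have hy1out : ∀ c, Commute c t → c ∉ P.comp t → y1 * c ∈ P.comp t := fun c hct hc => by
    have h1 := h.hout y1 hy1t hy1X
    have h2 := h.hout c hct hc
    have e : y1 * c = (y * y1)⁻¹ * (y * c) := by
      rw [mul_inv_rev, inv_eq_of_mul_eq_one_right hy1sq, inv_eq_of_mul_eq_one_right h.y_sq,
        show y1 * y * (y * c) = y1 * (y * y) * c by group, h.y_sq, mul_one]
    exact e ▸ mul_mem (inv_mem h1) h2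
  obtain ⟨z, hzT, hzN, hzX, hz1⟩ :
      ∃ z, z ∈ (T : Subgroup G) ∧ z ∈ N ∧ z ∈ P.comp t ∧ z ≠ 1 := by
    by_contra hcon
    push Not at hcon
    refine hSncyc ⟨⟨⟨⟨y1, hy1N⟩, (hSmem _).mpr hy1T⟩, fun z => ?_⟩⟩
    by_cases hzX : ((z : N) : G) ∈ P.comp t
    · exact ⟨0, Subtype.ext (Subtype.ext (by
        simp only [zpow_zero]; exact (hcon _ ((hSmem z).mp z.2) (z : N).2 hzX).symm))⟩
    · refine ⟨1, Subtype.ext (Subtype.ext ?_)⟩
      have hz' := hcon (y1 * ((z : N) : G)) (mul_mem hy1T ((hSmem z).mp z.2)) (mul_mem hy1N (z : N).2)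
        (hy1out _ (h.htc _ ((hSmem z).mp z.2)) hzX)
      simp only [zpow_one]
      exact (eq_inv_of_mul_eq_one_right hz').trans (inv_eq_of_mul_eq_one_right hy1sq) |>.symm
  have htN : t ∈ N := by
    obtain ⟨k, hk⟩ := CfsgLib.NilProd.orderOf_pow_of_mem T.isPGroup' hzT
    have hev : 2 ∣ orderOf z := by
      rcases k with _ | k
      · exact absurd (orderOf_eq_one_iff.mp hk) hz1
      · exact hk ▸ dvd_pow_self 2 (Nat.succ_ne_zero k)
    rw [← h.unique_involution (pow_mem hzT _) (pow_mem hzX _)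
      (orderOf_pow_orderOf_div (orderOf_pos z).ne' hev)]
    exact pow_mem hzN _
  -- the Sylow subgroup of `N` is dihedral
  set Tc : Subgroup (S : Subgroup N) := (P.comp t).comap (N.subtype.comp (S : Subgroup N).subtype) with hTc
  haveI : IsCyclic Tc := isCyclic_of_injective
    (((N.subtype.comp (S : Subgroup N).subtype).comp Tc.subtype).codRestrict
      ((T : Subgroup G) ⊓ P.comp t) fun z => ⟨(hSmem _).mp (z : (S : Subgroup N)).2, z.2⟩)
    fun z z' e => Subtype.ext (Subtype.ext (Subtype.ext ((congrArg Subtype.val e :))))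
  have hidx : ∀ C : Subgroup (S : Subgroup N), (∀ z, z ∈ C ↔ ((z : N) : G) ∈ P.comp t) → C.index = 2 := by
    intro C hC
    refine Subgroup.index_eq_two_iff.mpr ⟨⟨⟨y1, hy1N⟩, (hSmem _).mpr hy1T⟩, fun z => ?_⟩
    rw [hC, hC]
    show Xor (((z : N) : G) * y1 ∈ P.comp t) (((z : N) : G) ∈ P.comp t)
    by_cases hz : ((z : N) : G) ∈ P.comp t
    · exact Or.inr ⟨hz, fun h' => hy1X ((Subgroup.mul_mem_cancel_left _ hz).mp h')⟩
    · have hzt := h.htc _ ((hSmem z).mp z.2)
      have h1 := inv_mem (hy1out _ hzt hz)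
      rw [mul_inv_rev, inv_eq_of_mul_eq_one_right hy1sq,
        inv_eq_of_mul_eq_one_right (Semi.sq_eq_one_of_outside h.ht hzt hz)] at h1
      exact Or.inl ⟨h1, hz⟩
  have hsq : ∀ g ∉ Tc, g * g = 1 := fun g hg => Subtype.ext (Subtype.ext
    (Semi.sq_eq_one_of_outside h.ht (h.htc _ ((hSmem g).mp g.2)) hg))
  obtain ⟨eD⟩ := CfsgLib.Dickson.nonempty_mulEquiv_dihedral_of_index_two Tc (hidx Tc fun _ => Iff.rfl) hsq
  set tN : N := ⟨t, htN⟩ with htNdef
  have htS : tN ∈ (S : Subgroup N) := (hSmem _).mpr h.t_mem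
  have hn : 2 ≤ Nat.card Tc := by
    haveI : Nontrivial Tc := ⟨⟨⟨⟨tN, htS⟩, P.mem_comp t h.t_ne⟩, 1,
      fun e => h.t_ne (congrArg (fun w : Tc => (((w : (S : Subgroup N)) : N) : G)) e)⟩⟩
    exact Finite.one_lt_card
  set C := Subgroup.centralizer ({tN} : Set N) with hC
  set O : Subgroup N := (Cfsg.oddCore C).map C.subtype with hO
  have hOX : ∀ o ∈ O, (o : G) ∈ P.comp t ∧ Odd (orderOf (o : G)) := by
    rintro o ⟨c, hc, rfl⟩
    have hodd : Odd (orderOf ((C.subtype c : N) : G)) := by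
      rw [Subgroup.orderOf_coe, Subgroup.coe_subtype, Subgroup.orderOf_coe]
      exact (CfsgLib.StrongEmb.odd_card_oddCore C).of_dvd_nat (Subgroup.orderOf_dvd_natCard _ hc)
    refine ⟨?_, hodd⟩
    by_contra hnot
    have hct : Commute ((C.subtype c : N) : G) t :=
      congrArg Subtype.val (Subgroup.mem_centralizer_singleton_iff.mp c.2)
    rw [(Semi.centralizer_facts (P := P) h.ht hct).2 hnot] at hodd
    exact Nat.not_odd_iff_even.mpr even_two hodd
  have hcentS : O ≠ ⊥ → ∀ s ∈ (S : Subgroup N),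
      s ∈ Subgroup.centralizer (O : Set N) ↔ (s : G) ∈ P.comp t := by
    intro hO1 s hs
    refine ⟨fun hsc => ?_, fun hsX => Subgroup.mem_centralizer_iff.mpr fun o ho =>
      Subtype.ext (h.abelian (hOX o ho).1 hsX).eq⟩
    by_contra hsX
    obtain ⟨o, ho, ho1⟩ := (Subgroup.bot_or_exists_ne_one O).resolve_left hO1
    have e := h.inverts (h.htc _ ((hSmem s).mp hs)) hsX (hOX o ho).1
    have e' : (s : G) * o * (s : G)⁻¹ = o :=
      mul_inv_eq_iff_eq_mul.mpr (congrArg Subtype.val (Subgroup.mem_centralizer_iff.mp hsc o ho)).symm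
    rw [e'] at e
    have h2 : orderOf (o : G) ∣ 2 := orderOf_dvd_of_pow_eq_one
      (by rw [pow_two]; nth_rewrite 1 [e]; exact inv_mul_cancel _)
    have h3 : orderOf (o : G) = 1 := ((Nat.dvd_prime Nat.prime_two).mp h2).resolve_right fun e2 =>
      Nat.not_odd_iff_even.mpr (e2 ▸ even_two) (hOX o ho).2
    exact ho1 (Subtype.ext (orderOf_eq_one_iff.mp h3))
  obtain ⟨F, iF, iF', hF, ⟨eN⟩⟩ := Cfsg.Agent.S0508.result S (Nat.card Tc) hn ⟨eD⟩ tN
    (by rw [← Subgroup.orderOf_coe]; exact h.ht) htS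
    (fun s hs => Subtype.ext (h.htc _ ((hSmem s).mp hs)).eq) O rfl
    (fun hO1 => ⟨isCyclic_of_injective ((N.subtype.comp ((S : Subgroup N) ⊓ Subgroup.centralizer (O : Set N)
        : Subgroup N).subtype).codRestrict ((T : Subgroup G) ⊓ P.comp t) fun s =>
        ⟨(hSmem _).mp s.2.1, (hcentS hO1 _ s.2.1).mp s.2.2⟩)
        (fun s s' e => Subtype.ext (Subtype.ext ((congrArg Subtype.val e :)))),
      hidx _ fun z => by
        rw [Subgroup.mem_subgroupOf]
        exact ⟨fun h' => (hcentS hO1 _ z.2).mp h'.2, fun h' => ⟨z.2, (hcentS hO1 _ z.2).mpr h'⟩⟩⟩)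
    (fun s hs hsc o ho => by
      have hO1 : O ≠ ⊥ := fun e => hsc (Subgroup.mem_centralizer_iff.mpr fun o ho => by
        rw [Subgroup.mem_bot.mp (by rw [← e]; exact ho : o ∈ (⊥ : Subgroup N)), one_mul, mul_one])
      exact Subtype.ext (h.inverts (h.htc _ ((hSmem s).mp hs))
        (fun hsX => hsc ((hcentS hO1 s hs).mpr hsX)) (hOX o ho).1))
    (fun Y hY hY1 g hg => by
      obtain ⟨v, hv, hv1⟩ := (Subgroup.bot_or_exists_ne_one Y).resolve_left hY1
      refine Subgroup.mem_centralizer_singleton_iff.mpr (Subtype.ext ?_)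
      exact (h.commute_of_normalizer (P.mem_normalizer h.t_ne (hOX v (hY hv)).1
        (fun e => hv1 (Subtype.ext e)) (hOX _ (hY ((Subgroup.mem_normalizer_iff.mp hg v).mp hv))).1)).eq)
  letI := iF
  letI := iF'
  have hq3 : Fintype.card F ≠ 3 := by
    intro e3
    have h1 := CfsgLib.Classical.Linear.card_psl_two (F := F)
    rw [e3] at h1
    have hc12 : Nat.card N = 12 := by
      rw [Nat.card_congr eN.toEquiv]
      rw [show Nat.gcd 2 (3 - 1) = 2 by decide, show 3 * (3 ^ 2 - 1) = 24 by norm_num] at h1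
      omega
    exact hNns (Cfsg.Agent.S0144.result 2 3 2 1 Nat.prime_two Nat.prime_three (by rw [hc12]; norm_num))
  have h5 : 5 ≤ Fintype.card F := by
    have h1 : 1 < Fintype.card F := Fintype.one_lt_card
    obtain ⟨m, hm⟩ := hF
    omega
  refine ⟨N, F, iF, iF', hN.normal, htN, ?_, ?_, hF, h5, ⟨eN⟩⟩
  · -- `G = N C(t)` and the component is cyclic modulo `N`
    have hone := CfsgLib.CIT.oneClass_psl_two (F := F) (Nat.odd_iff.mp hF)
    have hclass : ∀ g : G, ∃ n ∈ N, Commute (n * g) t := by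
      intro g
      have hu2 : orderOf (⟨g * t * g⁻¹, hN.normal.conj_mem t htN g⟩ : N) = 2 := by
        rw [← Subgroup.orderOf_coe]
        exact (CfsgLib.StronglyEmbedded.orderOf_conj g t).trans h.ht
      obtain ⟨c, hc⟩ := isConj_iff.mp (hone.2 (eN ⟨g * t * g⁻¹, hN.normal.conj_mem t htN g⟩) (eN tN)
        (by rw [MulEquiv.orderOf_eq, hu2]) (by rw [MulEquiv.orderOf_eq, ← Subgroup.orderOf_coe]; exact h.ht))
      obtain ⟨n, rfl⟩ := eN.surjective c
      rw [← map_inv, ← map_mul, ← map_mul] at hc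
      have hc' : (n : G) * (g * t * g⁻¹) * (n : G)⁻¹ = t := congrArg Subtype.val (eN.injective hc)
      refine ⟨n, n.2, mul_inv_eq_iff_eq_mul.mp ?_⟩
      rw [← show (n : G) * (g * t * g⁻¹) * (n : G)⁻¹ = (n : G) * g * t * ((n : G) * g)⁻¹ by group]
      exact hc'
    have hcl : ∀ g : G, ∃ x ∈ P.comp t, x⁻¹ * g ∈ N ∧ g * x⁻¹ ∈ N := by
      intro g
      obtain ⟨n, hn, hng⟩ := hclass g
      by_cases hX : n * g ∈ P.comp t
      · refine ⟨_, hX, ?_, by rw [mul_inv_rev, mul_inv_cancel_left]; exact inv_mem hn⟩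
        rw [mul_inv_rev]
        simpa [mul_assoc] using hN.normal.conj_mem _ (inv_mem hn) g⁻¹
      · refine ⟨_, hy1out _ hng hX, ?_, ?_⟩
        · rw [show (y1 * (n * g))⁻¹ * g = g⁻¹ * (n⁻¹ * y1⁻¹) * g by group]
          simpa [mul_assoc] using hN.normal.conj_mem _ (mul_mem (inv_mem hn) (inv_mem hy1N)) g⁻¹
        · rw [show g * (y1 * (n * g))⁻¹ = n⁻¹ * y1⁻¹ by group]
          exact mul_mem (inv_mem hn) (inv_mem hy1N)
    let φ : P.comp t →* G ⧸ N := (QuotientGroup.mk' N).comp (P.comp t).subtype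
    have hsurj : Function.Surjective φ := fun q => by
      obtain ⟨g, rfl⟩ := QuotientGroup.mk_surjective q
      obtain ⟨x, hx, hxg, -⟩ := hcl g
      exact ⟨⟨x, hx⟩, QuotientGroup.eq.mpr hxg⟩
    have hsq : ∀ x : P.comp t, φ (x * x) = 1 := fun x => by
      show ((x : G) * (x : G) : G ⧸ N) = 1
      rw [← QuotientGroup.mk_mul, QuotientGroup.eq_one_iff]
      have e := h.inverts hy1t hy1X x.2
      have e2 : (x : G) * x = (x : G) * (y1 * ((x : G))⁻¹ * y1⁻¹) := by
        rw [show y1 * (x : G)⁻¹ * y1⁻¹ = (y1 * x * y1⁻¹)⁻¹ by group, e, inv_inv]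
      rw [e2, ← mul_assoc, ← mul_assoc]
      exact mul_mem (hN.normal.conj_mem y1 hy1N x) (inv_mem hy1N)
    have hq2 : ∀ q : G ⧸ N, q ^ 2 = 1 := fun q => by
      obtain ⟨x, rfl⟩ := hsurj q
      rw [pow_two, ← map_mul, hsq]
    -- the quotient is generated by the image of a cyclic 2-group
    obtain ⟨M, hMX, hM2, hmem, -⟩ := exists_twoPart _ (hS.isNilpotent h.t_ne)
    haveI : IsCyclic M := by
      refine CfsgLib.RankOneSemisimple.isCyclic_of_unique_involution hM2
        (fun b hb c hc => (h.abelian (hMX hb) (hMX hc)).eq) fun b hb c hc hb2 hc2 hb1 hc1 => ?_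
      rw [h.involution_eq (hMX hb) (CfsgLib.StronglyEmbedded.orderOf_two_iff.mpr ⟨hb2, hb1⟩),
        h.involution_eq (hMX hc) (CfsgLib.StronglyEmbedded.orderOf_two_iff.mpr ⟨hc2, hc1⟩)]
    let ψ : M →* G ⧸ N := (QuotientGroup.mk' N).comp M.subtype
    have hψ : Function.Surjective ψ := fun q => by
      obtain ⟨x, rfl⟩ := hsurj q
      obtain ⟨k, m, hm, e⟩ := Nat.exists_eq_two_pow_mul_odd (orderOf_pos (x : G)).ne'
      refine ⟨⟨(x : G) ^ m, hmem _ (pow_mem x.2 _) ⟨k, ?_⟩⟩, ?_⟩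
      · rw [orderOf_pow, e, Nat.gcd_eq_right (dvd_mul_left _ _), Nat.mul_div_cancel _ hm.pos]
      · show ((x : G) ^ m : G ⧸ N) = φ x
        obtain ⟨j, rfl⟩ := hm
        rw [pow_succ, pow_mul, hq2, one_pow, one_mul]
        rfl
    haveI : IsCyclic (G ⧸ N) := isCyclic_of_surjective ψ hψ
    obtain ⟨c, hc⟩ := IsCyclic.exists_ofOrder_eq_natCard (α := G ⧸ N)
    rw [Subgroup.index_eq_card, ← hc]
    exact Nat.le_of_dvd two_pos (orderOf_dvd_of_pow_eq_one (hq2 c))
  · set Z := Subgroup.centralizer (N : Set G) with hZ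
    haveI : Z.Normal := Subgroup.normal_centralizer
    haveI := hS.isSolvable_centralizer h.ht
    refine hS.rad Z inferInstance (Group.isSolvable_of_isSolvable_injective
      (f := Subgroup.inclusion (show Z ≤ Subgroup.centralizer ({t} : Set G) from fun z hz =>
        Subgroup.mem_centralizer_singleton_iff.mpr (Subgroup.mem_centralizer_iff.mp hz t htN).symm))
      (Subgroup.inclusion_injective _))

end Dih

end CfsgLib.Partition8
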