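import Cfsg.Agent.Partition8.QuotFix
import Cfsg.Agent.CPOutside.Basic
import Cfsg.Agent.S3946

/-!
A partition with a normal component, and partitions of `p`-groups.
-/

set_option autoImplicit false
set_option maxHeartbeats 800000

namespace CfsgLib.Partition8

/-- The Hughes subgroup is proper for some prime. -/
def HughesProper (G : Type*) [Group G] : Prop :=
  ∃ p : ℕ, p.Prime ∧ Subgroup.closure {g : G | g ^ p ≠ 1} ≠ ⊤

/-- There is a Frobenius complement. -/
def HasFrobenius (G : Type*) [Group G] : Prop :=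
  ∃ H : Subgroup G, Cfsg.IsFrobeniusComplement H

variable {G : Type*} [Group G] [Finite G]

/-- A partition of a `p`-group has proper Hughes subgroup. -/
theorem hughesProper_of_isPGroup (P : NPart G) [Nontrivial G] {p : ℕ} [hp : Fact p.Prime]
    (hG : IsPGroup p G) : HughesProper G := by
  haveI := hG.center_nontrivial
  obtain ⟨z, hz⟩ := exists_ne (1 : Subgroup.center G)
  have hz1 : (z : G) ≠ 1 := fun e => hz (Subtype.ext e)
  refine ⟨p, hp.out, fun htop => P.comp_ne_top _ hz1 (top_le_iff.mp (htop ▸ (Subgroup.closure_le _).mpr ?_))⟩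
  intro g hg
  by_contra hgz
  have hg1 : g ≠ 1 := fun e => hg (by rw [e, one_pow])
  obtain ⟨hpr, ho⟩ := P.eq_orderOf hz1 hg1 (Subgroup.mem_center_iff.mp z.2 g).symm hgz
  obtain ⟨k, hk⟩ := IsPGroup.iff_orderOf.mp hG g
  rw [← ho, hk] at hpr
  rcases k with _ | k
  · exact absurd hpr (by simp [Nat.not_prime_one])
  · rw [hpr.pow_eq_iff.mp rfl |>.2] at hk
    exact hg (by rw [← pow_one p, ← hk, pow_orderOf_eq_one])

/-- `(x g) ^ n` as a product of conjugates. -/
theorem prod_conj_eq {G : Type*} [Group G] (x g : G) (n : ℕ) :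
    ((List.range n).map fun i => g ^ i * x * (g ^ i)⁻¹).prod = (x * g) ^ n * (g ^ n)⁻¹ := by
  induction n with
  | zero => simp
  | succ n ih =>
    rw [List.range_succ, List.map_append, List.prod_append, ih, List.map_singleton,
      List.prod_singleton, pow_succ (x * g), pow_succ g]
    group

namespace NormalComp

variable {P : NPart G} {X : Subgroup G} (hXn : X.Normal) (hX : ∀ x ∈ X, x ≠ 1 → P.comp x = X)

include hX in
theorem pow_eq_one {g : G} (hg : g ∉ X) {n : ℕ} (hn : g ^ n ∈ X) : g ^ n = 1 := by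
  by_contra h
  have hg1 : g ≠ 1 := fun e => hg (e ▸ one_mem X)
  exact hg (hX _ hn h ▸ (P.comp_pow h).symm ▸ P.mem_comp g hg1)

include hX in
theorem eq_orderOf {g x : G} (hg : g ∉ X) (hx : x ∈ X) (hx1 : x ≠ 1) (hc : Commute g x) :
    (orderOf g).Prime ∧ orderOf x = orderOf g := by
  obtain ⟨hp, ho⟩ := P.eq_orderOf hx1 (fun (e : g = 1) => hg (e.symm ▸ one_mem X)) hc.symm ((hX x hx hx1).symm ▸ hg)
  exact ⟨ho ▸ hp, ho.symm⟩

include hX in
theorem orderOf_mk [X.Normal] {g : G} (hg : g ∉ X) : orderOf (g : G ⧸ X) = orderOf g := by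
  refine Nat.dvd_antisymm (orderOf_map_dvd (QuotientGroup.mk' X) g) (orderOf_dvd_of_pow_eq_one ?_)
  refine pow_eq_one hX hg ((QuotientGroup.eq_one_iff _).mp ?_)
  rw [QuotientGroup.mk_pow, pow_orderOf_eq_one]

include hXn hX in
theorem isNilpotent {g x0 : G} (hg : g ∉ X) (hx0 : x0 ∈ X) (hx01 : x0 ≠ 1) (hc : Commute g x0) :
    Group.IsNilpotent X := by
  haveI := hXn
  obtain ⟨hp, -⟩ := eq_orderOf hX hg hx0 hx01 hc
  haveI := Fact.mk hp
  set α : MulAut X := MulAut.conjNormal g with hα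
  have happ : ∀ (i : ℕ) (x : X), ((α ^ i) x : G) = g ^ i * x * (g ^ i)⁻¹ := fun i x => by
    rw [hα, ← map_pow, MulAut.conjNormal_apply]
  have hαp : α ^ orderOf g = 1 := by
    rw [hα, ← map_pow, pow_orderOf_eq_one, map_one]
  rcases (Nat.dvd_prime hp).mp (orderOf_dvd_of_pow_eq_one hαp) with h1 | h1
  · have hX' : IsPGroup (orderOf g) X := fun x => by
      by_cases hx1 : x = 1
      · exact ⟨0, by rw [hx1, one_pow]⟩
      refine ⟨1, ?_⟩
      have hcx : Commute g (x : G) := by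
        have h2 := happ 1 x
        rw [pow_one, pow_one, orderOf_eq_one_iff.mp h1, MulAut.one_apply] at h2
        exact mul_inv_eq_iff_eq_mul.mp h2.symm
      have h3 := (eq_orderOf hX hg x.2 (fun e => hx1 (Subtype.ext e)) hcx).2
      exact Subtype.ext (by rw [SubgroupClass.coe_pow, pow_one, ← h3, pow_orderOf_eq_one]; rfl)
    exact hX'.isNilpotent
  · refine Cfsg.Agent.S3946.result α (h1 ▸ hp) fun x => Subtype.ext ?_
    rw [SubmonoidClass.coe_list_prod, List.map_map, h1,
      List.map_congr_left (f := Subtype.val ∘ fun i : ℕ => (α ^ i) x) (g := fun i => g ^ i * (x : G) * (g ^ i)⁻¹) (fun i _ => happ i x),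
      prod_conj_eq, pow_orderOf_eq_one, inv_one, mul_one]
    have hxg : (x : G) * g ∉ X := fun h => hg (by simpa using mul_mem (inv_mem x.2) h)
    have h2 : orderOf ((x : G) * g) = orderOf g := by
      rw [← orderOf_mk hX hxg, ← orderOf_mk hX hg, QuotientGroup.mk_mul,
        (QuotientGroup.eq_one_iff (x : G)).mpr x.2, one_mul]
    rw [← h2, pow_orderOf_eq_one]
    rfl

/-- Central elements of order dividing `p` of `X`. -/
def omegaCenter (X : Subgroup G) (p : ℕ) : Subgroup G where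
  carrier := {z | z ∈ X ∧ (∀ x ∈ X, Commute z x) ∧ z ^ p = 1}
  one_mem' := ⟨one_mem X, fun x _ => Commute.one_left x, one_pow p⟩
  mul_mem' := fun ha hb => ⟨mul_mem ha.1 hb.1, fun x hx => (ha.2.1 x hx).mul_left (hb.2.1 x hx), by
    rw [(ha.2.1 _ hb.1).mul_pow, ha.2.2, hb.2.2, one_mul]⟩
  inv_mem' := fun ha => ⟨inv_mem ha.1, fun x hx => (ha.2.1 x hx).inv_left, by
    rw [inv_pow, ha.2.2, inv_one]⟩

include hXn hX in
theorem exists_bad_normal {g0 x0 : G} (hg0 : g0 ∉ X) (hx0 : x0 ∈ X) (hx01 : x0 ≠ 1)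
    (hc0 : Commute g0 x0) :
    (∀ h : G, h ∉ X → orderOf g0 ∣ orderOf h → orderOf h = orderOf g0) ∧
    ∃ K : Subgroup G, K.Normal ∧ X ≤ K ∧ ∀ h, h ∉ X → (h ∈ K ↔ orderOf h = orderOf g0) := by
  haveI := hXn
  obtain ⟨hp, ho⟩ := eq_orderOf hX hg0 hx0 hx01 hc0
  haveI hfact := Fact.mk hp
  haveI hnil := isNilpotent hXn hX hg0 hx0 hx01 hc0
  set p := orderOf g0 with hpdef
  set Z : Subgroup G := omegaCenter X p with hZdef
  haveI hZn : Z.Normal := ⟨fun z hz g => ⟨hXn.conj_mem z hz.1 g, fun x hx => by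
      have h1 := (hz.2.1 (g⁻¹ * x * g) (by simpa using hXn.conj_mem x hx g⁻¹))
      have h2 := h1.map (MulAut.conj g).toMonoidHom
      simpa [mul_assoc] using h2,
    by rw [conj_pow, hz.2.2]; group⟩⟩
  have hZp : IsPGroup p Z := fun z => ⟨1, Subtype.ext (by rw [SubgroupClass.coe_pow, pow_one]; exact z.2.2.2)⟩
  obtain ⟨z0, hz0, hz01⟩ : ∃ z ∈ Z, z ≠ (1 : G) := by
    obtain ⟨Pp⟩ : Nonempty (Sylow p X) := inferInstance
    have hPn : (Pp : Subgroup X).Normal :=
      (List.TFAE.out (Group.isNilpotent_of_finite_tfae (G := X)) 0 3 rfl rfl).mp hnil p hfact Pp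
    have hdvd : p ∣ Nat.card X := ho ▸ Subgroup.orderOf_dvd_natCard X hx0
    haveI := hPn
    obtain ⟨c, hc, hc1⟩ := (Subgroup.bot_or_exists_ne_one _).resolve_left
      (CfsgLib.CPOutside.inf_center_ne_bot_of_nilpotent X (Pp : Subgroup X) (Pp.ne_bot_of_dvd_card hdvd))
    obtain ⟨k, hk⟩ := IsPGroup.iff_orderOf.mp Pp.isPGroup' ⟨c, hc.1⟩
    rw [Subgroup.orderOf_mk] at hk
    have hd : p ∣ orderOf c := by
      rcases k with _ | k
      · exact absurd (orderOf_eq_one_iff.mp hk) hc1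
      · exact hk ▸ dvd_pow_self p (Nat.succ_ne_zero k)
    set d := c ^ (orderOf c / p) with hddef
    have hd1 : orderOf d = p := orderOf_pow_orderOf_div (orderOf_pos c).ne' hd
    have hdc : d ∈ Subgroup.center X := pow_mem hc.2 _
    refine ⟨d, ⟨d.2, fun x hx => (congrArg Subtype.val (Subgroup.mem_center_iff.mp hdc ⟨x, hx⟩)).symm, ?_⟩, ?_⟩
    · rw [← SubgroupClass.coe_pow, ← hd1, pow_orderOf_eq_one]; rfl
    · intro e
      rw [show d = 1 from Subtype.ext e, orderOf_one] at hd1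
      exact hp.ne_one hd1.symm
  -- every element outside `X` of order divisible by `p` has order `p`
  have hA : ∀ h : G, h ∉ X → p ∣ orderOf h → orderOf h = p := by
    intro h hh hd
    have hh1 : h ≠ 1 := fun e => hh (e ▸ one_mem X)
    set a := h ^ (orderOf h / p) with hadef
    have ha : orderOf a = p := orderOf_pow_orderOf_div (orderOf_pos h).ne' hd
    have ha1 : a ≠ 1 := fun e => by rw [e, orderOf_one] at ha; exact hp.ne_one ha.symm
    haveI := Fintype.ofFinite Z
    have hσ : (MulAut.conjNormal a : MulAut Z).toEquiv ^ p ^ 1 = 1 := by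
      have h1 : (MulAut.conjNormal a : MulAut Z) ^ p = 1 := by
        rw [← map_pow, ← ha, pow_orderOf_eq_one, map_one]
      rw [pow_one]
      refine Equiv.ext fun z => ?_
      have h2 : ∀ n : ℕ, ((MulAut.conjNormal a : MulAut Z).toEquiv ^ n) z =
          ((MulAut.conjNormal a : MulAut Z) ^ n) z := by
        intro n
        induction n with
        | zero => rfl
        | succ n ih => rw [pow_succ', pow_succ', Equiv.Perm.mul_apply, ih]; rfl
      rw [h2, h1]; rfl
    have hpZ : p ∣ Fintype.card Z := by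
      rw [← Nat.card_eq_fintype_card]
      obtain ⟨n, hn⟩ := IsPGroup.iff_card.mp hZp
      rcases n with _ | n
      · exact absurd (Subgroup.card_eq_one.mp hn ▸ hz0 : z0 ∈ (⊥ : Subgroup G)) (by simpa using hz01)
      · exact hn ▸ dvd_pow_self p (Nat.succ_ne_zero n)
    obtain ⟨z, hz, hz1⟩ := Equiv.Perm.exists_fixed_point_of_prime' hpZ hσ (a := (1 : Z))
      (map_one (MulAut.conjNormal a : MulAut Z))
    have hz1' : (z : G) ≠ 1 := fun e => hz1 (Subtype.ext e)
    have hca : Commute (z : G) a := by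
      have h1 : a * (z : G) * a⁻¹ = z := by
        have := congrArg Subtype.val hz
        simpa using this
      exact (mul_inv_eq_iff_eq_mul.mp h1).symm
    have hn := P.mem_normalizer_of_commute hh1 (pow_mem (P.mem_comp h hh1) _) ha1 hca
    have hmem : h * ((z : G) * h⁻¹ * (z : G)⁻¹) ∈ P.comp h :=
      mul_mem (P.mem_comp h hh1)
        ((Subgroup.mem_normalizer_iff.mp hn _).mp (inv_mem (P.mem_comp h hh1)))
    have hmemX : h * ((z : G) * h⁻¹ * (z : G)⁻¹) ∈ X := by
      rw [show h * ((z : G) * h⁻¹ * (z : G)⁻¹) = h * (z : G) * h⁻¹ * (z : G)⁻¹ by group]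
      exact mul_mem (hXn.conj_mem _ z.2.1 h) (inv_mem z.2.1)
    have hcz : Commute h (z : G) := by
      by_contra hne
      have hne' : h * ((z : G) * h⁻¹ * (z : G)⁻¹) ≠ 1 := fun e => hne (by
        have : h * (z : G) * h⁻¹ = z := mul_inv_eq_one.mp (by rw [← e]; group)
        exact mul_inv_eq_iff_eq_mul.mp this)
      exact hh (hX _ hmemX hne' ▸ (P.comp_eq h _ hh1 hmem hne').symm ▸ P.mem_comp h hh1)
    obtain ⟨-, hzo⟩ := eq_orderOf hX hh z.2.1 hz1' hcz
    have hzp : orderOf (z : G) = p :=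
      ((Nat.dvd_prime hp).mp (orderOf_dvd_of_pow_eq_one z.2.2.2)).resolve_left
        fun e => hz1' (orderOf_eq_one_iff.mp e)
    rw [← hzo, hzp]
  letI : CommGroup Z := { (inferInstance : Group Z) with
    mul_comm := fun a b => Subtype.ext (a.2.2.1 _ b.2.1).eq }
  set ρ : (G ⧸ X) →* MulAut Z := QuotientGroup.lift X MulAut.conjNormal (fun x hx => by
    rw [MonoidHom.mem_ker]
    refine MulEquiv.ext fun z => Subtype.ext ?_
    rw [MulAut.one_apply, MulAut.conjNormal_apply, ← (z.2.2.1 x hx).eq, mul_inv_cancel_right]) with hρ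
  have hρap : ∀ (h : G) (z : Z), (ρ (h : G ⧸ X) z : G) = h * z * h⁻¹ := fun h z => by
    rw [hρ, QuotientGroup.lift_mk, MulAut.conjNormal_apply]
  have hF : FixHyp p ρ := by
    refine ⟨⟨⟨z0, hz0⟩, fun e => hz01 (congrArg Subtype.val e)⟩,
      fun z => Subtype.ext (by rw [SubgroupClass.coe_pow]; exact z.2.2.2), ?_, ?_, ?_⟩
    · intro q hq
      obtain ⟨h, rfl⟩ := QuotientGroup.mk_surjective q
      by_cases hh : h ∈ X
      · exact ⟨0, by rw [(QuotientGroup.eq_one_iff h).mpr hh, orderOf_one, pow_zero]⟩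
      · rw [orderOf_mk hX hh] at hq ⊢
        exact ⟨1, by rw [hA h hh hq, pow_one]⟩
    · intro q hq1 hq z hfix
      obtain ⟨h, rfl⟩ := QuotientGroup.mk_surjective q
      by_contra hz
      have hh : h ∉ X := fun hh => hq1 ((QuotientGroup.eq_one_iff h).mpr hh)
      have hfix' := congrArg Subtype.val hfix
      rw [hρap] at hfix'
      have hz' : (z : G) ≠ 1 := fun e => hz (Subtype.ext e)
      obtain ⟨-, hzo⟩ := eq_orderOf hX hh z.2.1 hz' (mul_inv_eq_iff_eq_mul.mp hfix')
      have hzp : orderOf (z : G) = p :=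
        ((Nat.dvd_prime hp).mp (orderOf_dvd_of_pow_eq_one z.2.2.2)).resolve_left
          fun e => hz' (orderOf_eq_one_iff.mp e)
      rw [orderOf_mk hX hh, ← hzo, hzp] at hq
      exact hq dvd_rfl
    · intro q hq z
      obtain ⟨h, rfl⟩ := QuotientGroup.mk_surjective q
      refine Subtype.ext ?_
      have hprod : ∀ n : ℕ, ((∏ i ∈ Finset.range n, ρ ((h : G ⧸ X) ^ i) z : Z) : G) =
          ((z : G) * h) ^ n * (h ^ n)⁻¹ := by
        intro n
        induction n with
        | zero => simp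
        | succ n ih =>
          rw [Finset.prod_range_succ, Subgroup.coe_mul, ih, ← QuotientGroup.mk_pow, hρap,
            pow_succ ((z : G) * h), pow_succ h]
          group
      rw [hprod, OneMemClass.coe_one]
      by_cases hh : h ∈ X
      · rw [(z.2.2.1 h hh).mul_pow, z.2.2.2, one_mul, mul_inv_cancel]
      · rw [orderOf_mk hX hh] at hq
        have hd : p ∣ orderOf h := by
          obtain ⟨k, hk⟩ := hq
          rcases k with _ | k
          · exact absurd ((orderOf_eq_one_iff.mp hk) ▸ one_mem X) hh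
          · exact hk ▸ dvd_pow_self p (Nat.succ_ne_zero k)
        have hzh : (z : G) * h ∉ X := fun h' => hh (by simpa using mul_mem (inv_mem z.2.1) h')
        have h2 : orderOf ((z : G) * h) = orderOf h := by
          rw [← orderOf_mk hX hzh, ← orderOf_mk hX hh, QuotientGroup.mk_mul,
            (QuotientGroup.eq_one_iff (z : G)).mpr z.2.1, one_mul]
        have h3 : h ^ p = 1 := by rw [← hA h hh hd, pow_orderOf_eq_one]
        have h4 : ((z : G) * h) ^ p = 1 := by rw [← hA h hh hd, ← h2, pow_orderOf_eq_one]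
        rw [h3, h4, inv_one, one_mul]
  obtain ⟨K, hKn, hK⟩ := hF.exists_normal
  refine ⟨hA, K.comap (QuotientGroup.mk' X), hKn.comap _, fun x hx => ?_, fun h hh => ?_⟩
  · show (x : G ⧸ X) ∈ K
    rw [(QuotientGroup.eq_one_iff x).mpr hx]
    exact one_mem K
  · show (h : G ⧸ X) ∈ K ↔ _
    rw [hK, orderOf_mk hX hh]
    refine ⟨?_, fun e => ⟨1, by rw [e, pow_one]⟩⟩
    rintro ⟨k, hk⟩
    rcases k with _ | k
    · exact absurd ((orderOf_eq_one_iff.mp hk) ▸ one_mem X) hh
    · exact hA h hh (hk ▸ dvd_pow_self p (Nat.succ_ne_zero k))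

include hXn hX in
/-- A partition with a normal component. -/
theorem main (hX1 : X ≠ ⊥) : HughesProper G ∨ HasFrobenius G := by
  obtain ⟨x1, hx1, hx11⟩ := (Subgroup.bot_or_exists_ne_one X).resolve_left hX1
  have hXtop : X ≠ ⊤ := hX x1 hx1 hx11 ▸ P.comp_ne_top x1 hx11
  haveI := hXn
  by_cases hbad : ∀ g : G, g ∉ X → ∀ k ∈ X, Commute g k → k = 1
  · exact Or.inr (exists_frobenius_of_fpf X hX1 hXtop hbad)
  push Not at hbad
  obtain ⟨g0, hg0, x0, hx0, hc0, hx01⟩ := hbad
  obtain ⟨hp, -⟩ := eq_orderOf hX hg0 hx0 hx01 hc0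
  obtain ⟨hA, K, hKn, hXK, hK⟩ := exists_bad_normal hXn hX hg0 hx0 hx01 hc0
  by_cases hKtop : K = ⊤
  · refine Or.inl ⟨orderOf g0, hp, fun htop => hXtop (top_le_iff.mp (htop ▸ (Subgroup.closure_le _).mpr ?_))⟩
    intro g hg
    by_contra hgX
    exact hg ((hK g hgX).mp (hKtop ▸ Subgroup.mem_top g) ▸ pow_orderOf_eq_one g)
  haveI := hKn
  refine Or.inr (exists_frobenius_of_fpf K (fun e => hX1 (le_bot_iff.mp (e ▸ hXK))) hKtop ?_)
  intro g hg k hk hc
  by_contra hk1
  have hgX : g ∉ X := fun h => hg (hXK h)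
  have hgp : ¬ orderOf g0 ∣ orderOf g := fun hd => hg ((hK g hgX).mpr (hA g hgX hd))
  by_cases hkX : k ∈ X
  · obtain ⟨hq, -⟩ := eq_orderOf hX hgX hkX hk1 hc
    obtain ⟨-, L, hLn, -, hL⟩ := exists_bad_normal hXn hX hgX hkX hk1 hc
    have hgL : g ∈ L := (hL g hgX).mpr rfl
    have hg0K : g0 ∈ K := (hK g0 hg0).mpr rfl
    have hcomm : g * g0 * g⁻¹ * g0⁻¹ ∈ X := by
      by_contra hcX
      have h1 := (hK _ hcX).mp (mul_mem (hKn.conj_mem g0 hg0K g) (inv_mem hg0K))
      have h2 := (hL _ hcX).mp (by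
        rw [show g * g0 * g⁻¹ * g0⁻¹ = g * (g0 * g⁻¹ * g0⁻¹) by group]
        exact mul_mem hgL (hLn.conj_mem _ (inv_mem hgL) g0))
      exact hgp (h1.symm.trans h2 ▸ dvd_rfl)
    have hcq : Commute (g : G ⧸ X) (g0 : G ⧸ X) := by
      have h1 := (QuotientGroup.eq_one_iff _).mpr hcomm
      rw [QuotientGroup.mk_mul, QuotientGroup.mk_mul, QuotientGroup.mk_mul, QuotientGroup.mk_inv,
        QuotientGroup.mk_inv, mul_inv_eq_one, mul_inv_eq_iff_eq_mul] at h1
      exact h1
    have hcop : (orderOf (g : G ⧸ X)).Coprime (orderOf (g0 : G ⧸ X)) := by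
      rw [orderOf_mk hX hgX, orderOf_mk hX hg0]
      exact ((Nat.Prime.coprime_iff_not_dvd hp).mpr hgp).symm
    have hord := hcq.orderOf_mul_eq_mul_orderOf_of_coprime hcop
    rw [← QuotientGroup.mk_mul, orderOf_mk hX hgX, orderOf_mk hX hg0] at hord
    have hgg : g * g0 ∉ X := fun h => by
      rw [(QuotientGroup.eq_one_iff _).mpr h, orderOf_one] at hord
      exact hp.ne_one (Nat.eq_one_of_mul_eq_one_left hord.symm)
    rw [orderOf_mk hX hgg] at hord
    have h3 := hA _ hgg (hord ▸ dvd_mul_left _ _)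
    rw [hord] at h3
    have h4 : orderOf g = 1 := (Nat.mul_eq_right hp.ne_zero).mp h3
    exact hq.ne_one h4
  · have hko : orderOf k = orderOf g0 := (hK k hkX).mp hk
    have hord := hc.orderOf_mul_eq_mul_orderOf_of_coprime
      (hko ▸ ((Nat.Prime.coprime_iff_not_dvd hp).mpr hgp).symm)
    have hgk : g * k ∉ X := fun h => hg (by simpa using mul_mem (hXK h) (inv_mem hk))
    have h3 := hA _ hgk (hord ▸ hko ▸ dvd_mul_left _ _)
    rw [hord, hko] at h3
    exact hgX (orderOf_eq_one_iff.mp ((Nat.mul_eq_right hp.ne_zero).mp h3) ▸ one_mem X)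

end NormalComp

end CfsgLib.Partition8
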