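import Cfsg.Agent.Partition8.Basic
import Cfsg.Agent.MinNormal.Basic
import Cfsg.Agent.S0205

/-!
A group acting on an elementary abelian `p`-group, whose elements are `p`-elements or `p'`-elements,
with `p'`-elements acting without fixed points and all `p`-elements of norm one, has a normal subgroup
consisting of all its `p`-elements.
-/

set_option autoImplicit false
set_option maxHeartbeats 400000

namespace CfsgLib.Partition8

open Finset in
/-- The hypotheses on the action. -/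
structure FixHyp {Q Z : Type*} [Group Q] [CommGroup Z] (p : ℕ) (ρ : Q →* MulAut Z) : Prop where
  exists_ne_one : ∃ z : Z, z ≠ 1
  pow_p : ∀ z : Z, z ^ p = 1
  cop : ∀ q : Q, p ∣ orderOf q → ∃ k, orderOf q = p ^ k
  fpf : ∀ q : Q, q ≠ 1 → ¬ p ∣ orderOf q → ∀ z, ρ q z = z → z = 1
  norm : ∀ q : Q, (∃ k, orderOf q = p ^ k) → ∀ z : Z, ∏ i ∈ Finset.range p, ρ (q ^ i) z = 1

variable {Q Z : Type*} [Group Q] [Finite Q] [CommGroup Z] {p : ℕ} [hp : Fact p.Prime]
  {ρ : Q →* MulAut Z}

/-- An element of order `p` normalises no non-trivial `p'`-subgroup. -/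
theorem FixHyp.eq_bot_of_normalize (h : FixHyp p ρ) {a : Q} (ha : orderOf a = p) (R : Subgroup Q)
    (hR : ¬ p ∣ Nat.card R) (hn : a ∈ Subgroup.normalizer (R : Set Q)) : R = ⊥ := by
  classical
  by_contra hR1
  obtain ⟨z, hz⟩ := h.exists_ne_one
  haveI := Fintype.ofFinite R
  have hap : a ^ p = 1 := ha ▸ pow_orderOf_eq_one a
  have hmem : ∀ (q : R) (n : ℕ), ((q : Q) * a) ^ n * (a ^ n)⁻¹ ∈ R := by
    intro q n
    induction n with
    | zero => simp
    | succ n ih =>
      have e : ((q : Q) * a) ^ (n + 1) * (a ^ (n + 1))⁻¹ =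
          (q : Q) * (a * (((q : Q) * a) ^ n * (a ^ n)⁻¹) * a⁻¹) := by
        rw [pow_succ', pow_succ']; group
      rw [e]
      exact mul_mem q.2 ((Subgroup.mem_normalizer_iff.mp hn _).mp ih)
  have hndvd : ∀ r ∈ R, ¬ p ∣ orderOf r := fun r hr hd =>
    hR (hd.trans (Subgroup.orderOf_dvd_natCard _ hr))
  have haR : a ∉ R := fun h' => hndvd a h' (ha ▸ dvd_rfl)
  have hord : ∀ q : R, orderOf ((q : Q) * a) = p := by
    intro q
    have hqp : ((q : Q) * a) ^ p ∈ R := by
      have := hmem q p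
      rwa [hap, inv_one, mul_one] at this
    have hd : p ∣ orderOf ((q : Q) * a) := by
      by_contra hd
      have hcop : (orderOf ((q : Q) * a)).Coprime p :=
        ((Nat.Prime.coprime_iff_not_dvd hp.out).mpr hd).symm
      obtain ⟨m, hm⟩ := exists_pow_eq_self_of_coprime hcop.symm
      have : (q : Q) * a ∈ R := hm ▸ pow_mem hqp m
      exact haR (by simpa using mul_mem (inv_mem q.2) this)
    obtain ⟨k, hk⟩ := h.cop _ hd
    rcases k with _ | k
    · rw [hk, pow_zero, Nat.dvd_one] at hd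
      exact absurd hd hp.out.ne_one
    have h2 := hndvd _ hqp
    rw [orderOf_pow, hk, pow_succ', Nat.gcd_eq_right (dvd_mul_right p _),
      Nat.mul_div_cancel_left _ hp.out.pos] at h2
    rcases k with _ | k
    · rw [hk, pow_one]
    · exact absurd (dvd_pow_self p (Nat.succ_ne_zero k)) h2
  have hsum : ∀ w : Z, ∏ r : R, ρ (r : Q) w = 1 := by
    intro w
    obtain ⟨s, hs, hs1⟩ := (Subgroup.bot_or_exists_ne_one R).resolve_left hR1
    refine h.fpf s hs1 (hndvd s hs) _ ?_
    rw [map_prod]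
    refine Fintype.prod_equiv (Equiv.mulLeft (⟨s, hs⟩ : R)) _ _ fun r => ?_
    rw [Equiv.coe_mulLeft, Subgroup.coe_mul, map_mul, MulAut.mul_apply]
  have htot : ∏ i ∈ Finset.range p, ∏ q : R, ρ (((q : Q) * a) ^ i) z = 1 := by
    rw [Finset.prod_comm]
    exact Finset.prod_eq_one fun q _ => h.norm _ ⟨1, by rw [hord q, pow_one]⟩ z
  have hi : ∀ i ∈ Finset.range p, i ≠ 0 → ∏ q : R, ρ (((q : Q) * a) ^ i) z = 1 := by
    intro i hi hi0
    have hbij : Function.Bijective fun q : R => (⟨_, hmem q i⟩ : R) := by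
      rw [← Finite.injective_iff_bijective]
      intro q q' hqq
      have e1 : ((q : Q) * a) ^ i = ((q' : Q) * a) ^ i :=
        mul_right_cancel (congrArg Subtype.val hqq)
      have hcop : i.Coprime p := ((Nat.Prime.coprime_iff_not_dvd hp.out).mpr
        (Nat.not_dvd_of_pos_of_lt (Nat.pos_of_ne_zero hi0) (Finset.mem_range.mp hi))).symm
      obtain ⟨m, hm⟩ := exists_pow_eq_self_of_coprime (n := i) (x := (q : Q) * a)
        (by rw [hord]; exact hcop)
      have e2 : (q : Q) * a = (q' : Q) * a := by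
        have hmm : (((q' : Q) * a) ^ i) ^ m = (q : Q) * a := e1 ▸ hm
        have hu : ((q : Q) * a) ^ (i * m) = (q : Q) * a := by rw [pow_mul]; exact hm
        have hu1 : (i * m) % p = 1 % p := by
          have h1 := pow_inj_mod.mp (hu.trans (pow_one _).symm)
          rwa [hord] at h1
        have hu2 : ((q' : Q) * a) ^ (i * m) = (q' : Q) * a := by
          conv_rhs => rw [← pow_one ((q' : Q) * a)]
          rw [pow_inj_mod, hord]
          exact hu1
        rw [← hu2, ← hmm, pow_mul]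
      exact Subtype.ext (mul_right_cancel e2)
    rw [← hsum (ρ (a ^ i) z)]
    refine Fintype.prod_bijective _ hbij _ _ fun q => ?_
    show _ = ρ (((q : Q) * a) ^ i * (a ^ i)⁻¹) (ρ (a ^ i) z)
    rw [← MulAut.mul_apply, ← map_mul, inv_mul_cancel_right]
  rw [Finset.prod_eq_single_of_mem 0 (Finset.mem_range.mpr hp.out.pos) hi] at htot
  simp only [pow_zero, map_one, MulAut.one_apply, Finset.prod_const, Finset.card_univ] at htot
  have h1 : orderOf z ∣ p := orderOf_dvd_of_pow_eq_one (h.pow_p z)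
  have h2 : orderOf z ∣ Nat.card R := by
    rw [Nat.card_eq_fintype_card]; exact orderOf_dvd_of_pow_eq_one htot
  have h3 := Nat.dvd_gcd h1 h2
  rw [Nat.Coprime.gcd_eq_one ((Nat.Prime.coprime_iff_not_dvd hp.out).mpr hR), Nat.dvd_one,
    orderOf_eq_one_iff] at h3
  exact hz h3

theorem orderOf_pow_of_eq {q : Q} (hd : ∃ k, orderOf q = p ^ k) (hq : q ≠ 1) : p ∣ orderOf q := by
  obtain ⟨k, hk⟩ := hd
  rcases k with _ | k
  · exact absurd (orderOf_eq_one_iff.mp hk) hq
  · exact hk ▸ dvd_pow_self p (Nat.succ_ne_zero k)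

theorem eq_one_of_isPElement_of_not_dvd {q : Q} (hd : ∃ k, orderOf q = p ^ k)
    (h : ¬ p ∣ orderOf q) : q = 1 :=
  by_contra fun hq => h (orderOf_pow_of_eq hd hq)

/-- All `p`-elements form a normal subgroup. -/
theorem FixHyp.exists_normal (h : FixHyp p ρ) :
    ∃ K : Subgroup Q, K.Normal ∧ ∀ q, q ∈ K ↔ ∃ k, orderOf q = p ^ k := by
  obtain ⟨z0, hz0⟩ := h.exists_ne_one
  have hkerp : ∀ q ∈ ρ.ker, ∃ k, orderOf q = p ^ k := by
    intro q hq
    by_cases hq1 : q = 1
    · exact ⟨0, by rw [hq1, orderOf_one, pow_zero]⟩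
    by_contra hk
    exact hz0 (h.fpf q hq1 (fun hd => hk (h.cop q hd)) z0 (by rw [MonoidHom.mem_ker.mp hq]; rfl))
  by_cases hp2 : p = 2
  · refine ⟨ρ.ker, inferInstance, fun q => ⟨hkerp q, fun hq => ?_⟩⟩
    refine MonoidHom.mem_ker.mpr (MulEquiv.ext fun z => ?_)
    have h1 := h.norm q hq z
    have h2 := h.pow_p z
    subst hp2
    rw [show Finset.range 2 = {0, 1} from by decide, Finset.prod_pair (by decide), pow_zero, map_one,
      pow_one, MulAut.one_apply] at h1
    rw [pow_two] at h2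
    rw [MulAut.one_apply]
    exact mul_left_cancel (h1.trans h2.symm)
  have hpodd : ¬ 2 ∣ p := fun hd => hp2 ((Nat.prime_dvd_prime_iff_eq Nat.prime_two hp.out).mp hd).symm
  by_cases heven : 2 ∣ Nat.card Q
  · obtain ⟨i, hi⟩ := exists_prime_orderOf_dvd_card' 2 heven
    have hii : i * i = 1 := by rw [← pow_two, ← hi, pow_orderOf_eq_one]
    have hi1 : i ≠ 1 := fun e => by rw [e, orderOf_one] at hi; omega
    have hinv : ∀ w, ρ i w = w⁻¹ := fun w => by
      refine eq_inv_of_mul_eq_one_right (h.fpf i hi1 ?_ _ ?_)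
      · rw [hi]; exact fun hd => hp2 ((Nat.prime_dvd_prime_iff_eq hp.out Nat.prime_two).mp hd)
      · rw [map_mul, ← MulAut.mul_apply, ← map_mul, hii, map_one, MulAut.one_apply, mul_comm]
    have hK : IsPGroup p ρ.ker := fun q => by
      obtain ⟨k, hk⟩ := hkerp q q.2
      exact ⟨k, Subtype.ext (by rw [SubgroupClass.coe_pow, ← hk, pow_orderOf_eq_one]; rfl)⟩
    refine ⟨ρ.ker, inferInstance, fun b => ⟨hkerp b, fun hb => ?_⟩⟩
    by_contra hbK
    have hcent : b⁻¹ * i * b * i⁻¹ ∈ ρ.ker := by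
      rw [MonoidHom.mem_ker]
      refine MulEquiv.ext fun w => ?_
      have hi' : i⁻¹ = i := inv_eq_of_mul_eq_one_right hii
      rw [hi', map_mul, map_mul, map_mul, MulAut.mul_apply, MulAut.mul_apply, MulAut.mul_apply, hinv,
        hinv w, map_inv (ρ b) w, inv_inv, ← MulAut.mul_apply, ← map_mul, inv_mul_cancel, map_one]
    have hmem : ∀ k : ρ.ker, b⁻¹ * i * b * (k : Q) * i⁻¹ ∈ ρ.ker := fun k => by
      have e : b⁻¹ * i * b * (k : Q) * i⁻¹ = b⁻¹ * i * b * i⁻¹ * (i * k * i⁻¹) := by group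
      rw [e]
      exact mul_mem hcent ((MonoidHom.normal_ker ρ).conj_mem _ k.2 i)
    have hinvol : Function.Involutive fun k : ρ.ker => (⟨_, hmem k⟩ : ρ.ker) := fun k => by
      refine Subtype.ext ?_
      show b⁻¹ * i * b * (b⁻¹ * i * b * (k : Q) * i⁻¹) * i⁻¹ = k
      have e : b⁻¹ * i * b * (b⁻¹ * i * b * (k : Q) * i⁻¹) * i⁻¹ =
          b⁻¹ * (i * i) * b * (k : Q) * (i * i)⁻¹ := by group
      rw [e, hii]; group
    haveI := Fintype.ofFinite ρ.ker
    haveI : Fact (Nat.Prime 2) := ⟨Nat.prime_two⟩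
    obtain ⟨k, hk⟩ := Equiv.Perm.exists_fixed_point_of_prime (p := 2) (n := 1) (σ := hinvol.toPerm _)
      (by
        obtain ⟨m, hm⟩ := IsPGroup.iff_card.mp hK
        rw [← Nat.card_eq_fintype_card, hm]
        exact fun hd => hpodd (Nat.prime_two.dvd_of_dvd_pow hd))
      (Equiv.ext fun x => by simp [pow_two, hinvol x])
    have hk' : i * (b * (k : Q)) = b * (k : Q) * i := by
      have h1 : b⁻¹ * i * b * (k : Q) * i⁻¹ = k := congrArg Subtype.val hk
      have h2 := congrArg (fun x => b * x * i) h1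
      simpa [mul_assoc] using h2
    have hbkK : b * (k : Q) ∉ ρ.ker := fun h' => hbK (by simpa using mul_mem h' (inv_mem k.2))
    have hd : p ∣ orderOf (b * (k : Q)) := by
      by_contra hd
      refine hbkK ((QuotientGroup.eq_one_iff _).mp (orderOf_eq_one_iff.mp (Nat.eq_one_of_dvd_one ?_)))
      obtain ⟨m, hm⟩ := hb
      have e : (QuotientGroup.mk (b * (k : Q)) : Q ⧸ ρ.ker) = QuotientGroup.mk b := by
        rw [QuotientGroup.mk_mul, (QuotientGroup.eq_one_iff (k : Q)).mpr k.2, mul_one]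
      have h1 : orderOf (QuotientGroup.mk (b * (k : Q)) : Q ⧸ ρ.ker) ∣ orderOf (b * (k : Q)) :=
        orderOf_map_dvd (QuotientGroup.mk' _) _
      have h2 : orderOf (QuotientGroup.mk (b * (k : Q)) : Q ⧸ ρ.ker) ∣ p ^ m := by
        rw [e, ← hm]; exact orderOf_map_dvd (QuotientGroup.mk' _) _
      rw [← ((Nat.Prime.coprime_iff_not_dvd hp.out).mpr hd).pow_left m |>.gcd_eq_one]
      exact Nat.dvd_gcd h2 h1
    obtain ⟨m, hm⟩ := h.cop _ hd
    have hord := (Commute.orderOf_mul_eq_mul_orderOf_of_coprime (x := i) (y := b * (k : Q)) hk'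
      (by rw [hi, hm]; exact ((Nat.Prime.coprime_iff_not_dvd Nat.prime_two).mpr hpodd).pow_right m))
    obtain ⟨m', hm'⟩ := h.cop (i * (b * (k : Q))) (hord ▸ hd.mul_left _)
    rw [hord, hi] at hm'
    exact hpodd (Nat.prime_two.dvd_of_dvd_pow ⟨_, hm'.symm⟩)
  · haveI : Group.IsSolvable Q := Cfsg.Agent.S0205.result (Nat.odd_iff.mpr (by omega))
    obtain ⟨K, -, hK⟩ := Finite.exists_le_maximal
      (p := fun N : Subgroup Q => N.Normal ∧ IsPGroup p N) (a := ⊥)
      ⟨inferInstance, IsPGroup.of_bot⟩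
    haveI := hK.prop.1
    refine ⟨K, hK.prop.1, fun b => ⟨fun hb => ?_, fun hb => ?_⟩⟩
    · obtain ⟨k, hk⟩ := IsPGroup.iff_orderOf.mp hK.prop.2 ⟨b, hb⟩
      exact ⟨k, by rw [← hk, Subgroup.orderOf_mk]⟩
    by_contra hbK
    haveI : Nontrivial (Q ⧸ K) :=
      ⟨⟨(b : Q ⧸ K), 1, fun e => hbK ((QuotientGroup.eq_one_iff b).mp e)⟩⟩
    obtain ⟨M', hM'⟩ := CfsgLib.MinNormal.exists_isMinNormal (G := Q ⧸ K)
    haveI := hM'.normal
    obtain ⟨r, hr, -, hMr, -⟩ := hM'.exists_elementary_of_isSolvable inferInstance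
    haveI := Fact.mk hr
    set M : Subgroup Q := M'.comap (QuotientGroup.mk' K) with hMdef
    haveI : M.Normal := hM'.normal.comap _
    have hKM : K < M := by
      obtain ⟨x, hx, hx1⟩ := (Subgroup.bot_or_exists_ne_one M').resolve_left hM'.ne_bot
      obtain ⟨y, rfl⟩ := QuotientGroup.mk_surjective x
      refine lt_of_le_of_ne (fun u hu => ?_) fun e => hx1 ((QuotientGroup.eq_one_iff y).mpr (e.symm ▸ hx))
      show (u : Q ⧸ K) ∈ M'
      rw [(QuotientGroup.eq_one_iff u).mpr hu]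
      exact one_mem _
    have hrp : r ≠ p := by
      intro e
      subst e
      refine hKM.not_ge (hK.le_of_ge ⟨inferInstance, ?_⟩ hKM.le)
      refine hMr.comap_of_ker_isPGroup _ ?_
      rw [QuotientGroup.ker_mk']
      exact hK.prop.2
    have hbM : b ∉ M := by
      intro hbM
      obtain ⟨k, hk⟩ := hb
      obtain ⟨j, hj⟩ := IsPGroup.iff_orderOf.mp hMr ⟨(b : Q ⧸ K), hbM⟩
      replace hj : orderOf (b : Q ⧸ K) = r ^ j :=
        (Subgroup.orderOf_coe (⟨(b : Q ⧸ K), hbM⟩ : M')).trans hj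
      refine hbK ((QuotientGroup.eq_one_iff b).mp (orderOf_eq_one_iff.mp (Nat.eq_one_of_dvd_one ?_)))
      rw [← Nat.Coprime.gcd_eq_one (((Nat.coprime_primes hr hp.out).mpr hrp).pow j k)]
      exact Nat.dvd_gcd (dvd_of_eq hj) (hk ▸ orderOf_map_dvd (QuotientGroup.mk' K) b)
    obtain ⟨R⟩ : Nonempty (Sylow r M) := inferInstance
    have htop := Sylow.normalizer_sup_eq_top R
    obtain ⟨n, hn, m, hm, hnm⟩ := Subgroup.mem_sup_of_normal_right.mp
      (htop.symm ▸ Subgroup.mem_top b)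
    have hd : p ∣ orderOf n := by
      by_contra hd
      obtain ⟨k, hk⟩ := hb
      refine hbM ((QuotientGroup.eq_one_iff b).mp (orderOf_eq_one_iff.mp (Nat.eq_one_of_dvd_one ?_)))
      have e : (b : Q ⧸ M) = (n : Q ⧸ M) := by
        rw [← hnm, QuotientGroup.mk_mul, (QuotientGroup.eq_one_iff m).mpr hm, mul_one]
      rw [← ((Nat.Prime.coprime_iff_not_dvd hp.out).mpr hd).pow_left k |>.gcd_eq_one]
      exact Nat.dvd_gcd (hk ▸ orderOf_map_dvd (QuotientGroup.mk' M) b)
        (e.symm ▸ orderOf_map_dvd (QuotientGroup.mk' M) n)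
    have ha : orderOf (n ^ (orderOf n / p)) = p := orderOf_pow_orderOf_div (orderOf_pos n).ne' hd
    have hR : (R : Subgroup M).map M.subtype = ⊥ := by
      refine h.eq_bot_of_normalize ha _ ?_ (pow_mem hn _)
      obtain ⟨j, hj⟩ := IsPGroup.iff_card.mp (R.isPGroup'.map M.subtype)
      rw [hj]
      exact fun hdv => hrp ((Nat.prime_dvd_prime_iff_eq hp.out hr).mp (hp.out.dvd_of_dvd_pow hdv)).symm
    rw [Subgroup.map_eq_bot_iff_of_injective _ M.subtype_injective] at hR
    have hrM : r ∣ Nat.card M := by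
      haveI : Nontrivial M' := (Subgroup.nontrivial_iff_ne_bot _).mpr hM'.ne_bot
      obtain ⟨x, hx⟩ := exists_prime_orderOf_dvd_card' r (G := M') (by
        obtain ⟨j, hj⟩ := IsPGroup.iff_card.mp hMr
        rcases j with _ | j
        · exact absurd hj (Finite.one_lt_card (α := M')).ne'
        · exact hj ▸ dvd_pow_self r (Nat.succ_ne_zero j))
      obtain ⟨y, hy⟩ := QuotientGroup.mk_surjective (x : Q ⧸ K)
      have hy' : y ∈ M := show (y : Q ⧸ K) ∈ M' from hy ▸ x.2
      calc r = orderOf (QuotientGroup.mk' K y) := by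
            rw [QuotientGroup.mk'_apply, hy, Subgroup.orderOf_coe, hx]
        _ ∣ orderOf y := orderOf_map_dvd _ _
        _ ∣ Nat.card M := Subgroup.orderOf_dvd_natCard _ hy'
    exact (R.ne_bot_of_dvd_card hrM) hR

end CfsgLib.Partition8
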