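import Cfsg.Agent.Partition8.NormalComp
import Cfsg.Agent.FStar.SelfCentralizing
import Cfsg.Agent.Fitting.Join
import Cfsg.Agent.MinNormal.Basic
import Cfsg.Agent.S0205

/-!
Partitions without self-normalising components in groups without solvable normal subgroup:
components are nilpotent and involution centralisers have three possible types.
-/

set_option autoImplicit false
set_option maxHeartbeats 800000

namespace CfsgLib.Partition8

variable {G : Type*} [Group G]

namespace NPart

variable (P : NPart G)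

theorem pow_eq_one_of_mem {x g : G} (hx : x ≠ 1) (hg : g ∉ P.comp x) {n : ℕ}
    (hn : g ^ n ∈ P.comp x) : g ^ n = 1 := by
  by_contra h
  have hg1 : g ≠ 1 := fun (e : g = 1) => hg (e.symm ▸ one_mem _)
  exact hg (by rw [← P.comp_eq x _ hx hn h, P.comp_pow h]; exact P.mem_comp g hg1)

/-- The conjugate of a component is a component. -/
theorem conj_mem_comp {x y : G} (hx : x ≠ 1) (g : G) (hy : y ∈ P.comp x) (hy1 : y ≠ 1)
    (hgy : g * y * g⁻¹ ∈ P.comp x) : g ∈ Subgroup.normalizer (P.comp x : Set G) :=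
  P.mem_normalizer hx hy hy1 hgy

theorem comp_ne_bot {x : G} (hx : x ≠ 1) : P.comp x ≠ ⊥ := fun e =>
  hx (Subgroup.mem_bot.mp (e ▸ P.mem_comp x hx))

/-- A self-normalising component is a Frobenius complement. -/
theorem frobeniusComplement_comp {x : G} (hx : x ≠ 1)
    (h : ∀ g ∈ Subgroup.normalizer (P.comp x : Set G), g ∈ P.comp x) :
    Cfsg.IsFrobeniusComplement (P.comp x) := by
  refine ⟨P.comp_ne_bot hx, P.comp_ne_top x hx, fun g hg => ?_⟩
  rw [Subgroup.eq_bot_iff_forall]
  rintro z ⟨hz, y, hy, rfl⟩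
  by_contra hz1
  simp only [MulDistribMulAction.toMonoidEnd_apply, MulDistribMulAction.toMonoidHom_apply,
    MulAut.smul_def, MulAut.conj_apply] at hz hz1
  exact hg (h g (P.mem_normalizer hx hy (fun e => hz1 (by rw [e]; group)) hz))

end NPart

variable [Finite G]

theorem NPart.isNilpotent_comp (P : NPart G) {x g : G} (hx : x ≠ 1)
    (hgN : g ∈ Subgroup.normalizer (P.comp x : Set G)) (hg : g ∉ P.comp x) :
    Group.IsNilpotent (P.comp x) := by
  set Y := P.comp x with hY
  have hg1 : g ≠ 1 := fun (e : g = 1) => hg (e.symm ▸ one_mem _)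
  have hr : (orderOf g).minFac.Prime := Nat.minFac_prime fun e => hg1 (orderOf_eq_one_iff.mp e)
  set r := (orderOf g).minFac with hrdef
  set a := g ^ (orderOf g / r) with hadef
  have ha : orderOf a = r := orderOf_pow_orderOf_div (orderOf_pos g).ne' (Nat.minFac_dvd _)
  have ha1 : a ≠ 1 := fun e => by rw [e, orderOf_one] at ha; exact hr.ne_one ha.symm
  have haY : a ∉ Y := fun h => ha1 (P.pow_eq_one_of_mem hx hg h)
  have haN : a ∈ Subgroup.normalizer (Y : Set G) := pow_mem hgN _
  haveI := Fact.mk hr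
  have hord : ∀ y ∈ Y, orderOf (y * a) = r := by
    intro y hy
    have hyaY : y * a ∉ Y := fun h => haY (by simpa using mul_mem (inv_mem hy) h)
    refine orderOf_eq_prime (P.pow_eq_one_of_mem hx hyaY ?_)
      fun (e : y * a = 1) => hyaY (e.symm ▸ one_mem _)
    have key : ∀ n : ℕ, (y * a) ^ n * (a ^ n)⁻¹ ∈ Y := by
      intro n
      induction n with
      | zero => simp
      | succ n ih =>
        have e : (y * a) ^ (n + 1) * (a ^ (n + 1))⁻¹ = y * (a * ((y * a) ^ n * (a ^ n)⁻¹) * a⁻¹) := by
          rw [pow_succ', pow_succ']; group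
        rw [e]
        exact mul_mem hy ((Subgroup.mem_normalizer_iff.mp haN _).mp ih)
    have h1 := key r
    rwa [← ha, pow_orderOf_eq_one, inv_one, mul_one, ha] at h1
  set α : MulAut Y := Y.normalizerMonoidHom ⟨a, haN⟩ with hα
  have happ : ∀ (i : ℕ) (y : Y), ((α ^ i) y : G) = a ^ i * y * (a ^ i)⁻¹ := fun i y => by
    rw [hα, ← map_pow]; rfl
  have hαp : α ^ r = 1 := by
    rw [hα, ← map_pow]
    refine MulEquiv.ext fun y => Subtype.ext ?_
    show a ^ r * (y : G) * (a ^ r)⁻¹ = y
    rw [← ha, pow_orderOf_eq_one, inv_one, one_mul, mul_one]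
  rcases (Nat.dvd_prime hr).mp (orderOf_dvd_of_pow_eq_one hαp) with h1 | h1
  · have hY' : IsPGroup r Y := fun y => by
      by_cases hy1 : y = 1
      · exact ⟨0, by rw [hy1, one_pow]⟩
      have hc : Commute a (y : G) := by
        have h2 := happ 1 y
        rw [pow_one, pow_one, orderOf_eq_one_iff.mp h1, MulAut.one_apply] at h2
        exact mul_inv_eq_iff_eq_mul.mp h2.symm
      have hyc : P.comp (y : G) = Y := P.comp_eq x y hx y.2 fun e => hy1 (Subtype.ext e)
      obtain ⟨-, ho⟩ := P.eq_orderOf (fun e => hy1 (Subtype.ext e)) ha1 hc.symm (hyc.symm ▸ haY)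
      refine ⟨1, Subtype.ext ?_⟩
      rw [SubgroupClass.coe_pow, pow_one, ← ha, ho, pow_orderOf_eq_one]; rfl
    exact hY'.isNilpotent
  · refine Cfsg.Agent.S3946.result α (h1.symm ▸ hr) fun y => Subtype.ext ?_
    rw [SubmonoidClass.coe_list_prod, List.map_map, h1,
      List.map_congr_left (f := Subtype.val ∘ fun i : ℕ => (α ^ i) y)
        (g := fun i => a ^ i * (y : G) * (a ^ i)⁻¹) (fun i _ => happ i y), prod_conj_eq]
    conv_lhs => rw [show a ^ r = 1 from ha ▸ pow_orderOf_eq_one a, inv_one, mul_one, ← hord y y.2,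
      pow_orderOf_eq_one]
    rfl

/-- No solvable normal subgroup and no self-normalising component. -/
structure Semi (P : NPart G) : Prop where
  rad : ∀ N : Subgroup G, N.Normal → Group.IsSolvable N → N = ⊥
  self : ∀ x : G, x ≠ 1 → ∃ g ∈ Subgroup.normalizer (P.comp x : Set G), g ∉ P.comp x

namespace Semi

variable {P : NPart G} (hS : Semi P)
include hS

theorem isNilpotent {x : G} (hx : x ≠ 1) : Group.IsNilpotent (P.comp x) := by
  obtain ⟨g, hgN, hg⟩ := hS.self x hx
  exact P.isNilpotent_comp hx hgN hg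

theorem normalizer_ne_top {x : G} (hx : x ≠ 1) :
    Subgroup.normalizer (P.comp x : Set G) ≠ ⊤ := fun e => by
  haveI := hS.isNilpotent hx
  exact P.comp_ne_bot hx (hS.rad _ (Subgroup.normalizer_eq_top_iff.mp e) inferInstance)

theorem eq_bot_of_odd {N : Subgroup G} (hN : N.Normal) (ho : Odd (Nat.card N)) : N = ⊥ :=
  hS.rad N hN (Cfsg.Agent.S0205.result ho)

theorem pPrimeCore_eq_bot : Cfsg.pPrimeCore 2 G = ⊥ := by
  refine le_bot_iff.mp (sSup_le fun N hN => ?_)
  exact (hS.eq_bot_of_odd hN.1 (Nat.coprime_two_right.mp hN.2)).le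

/-- A nilpotent normal subgroup of a normal subgroup is trivial. -/
theorem eq_bot_of_normal_normal {K R : Subgroup G} (hK : K.Normal) (hRK : R ≤ K)
    (hR : (R.subgroupOf K).Normal) (hn : Group.IsNilpotent R) : R = ⊥ := by
  haveI := hn
  have hsub : R.IsSubnormal := Subgroup.IsSubnormal.trans hRK hR.isSubnormal hK.isSubnormal
  have h1 := CfsgLib.FStar.le_fittingSubgroup_of_isSubnormal hsub
  haveI := CfsgLib.Fitting.fittingSubgroup_isNilpotent G
  rw [hS.rad _ (CfsgLib.Fitting.fittingSubgroup_normal G) inferInstance] at h1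
  exact le_bot_iff.mp h1

theorem eq_bot_of_normal_solvable {K : Subgroup G} (hK : K.Normal) {L : Subgroup K}
    (hLn : L.Normal) (hLs : Group.IsSolvable L) : L = ⊥ := by
  by_contra hL
  obtain ⟨M, hM, hML⟩ := CfsgLib.MinNormal.exists_isMinNormal_le hLn hL
  haveI : Group.IsSolvable M := Group.isSolvable_of_isSolvable_injective
    (f := Subgroup.inclusion hML) (Subgroup.inclusion_injective hML)
  obtain ⟨p, hp, -, hMp, -⟩ := hM.exists_elementary_of_isSolvable inferInstance
  haveI := Fact.mk hp
  haveI : Group.IsNilpotent M := hMp.isNilpotent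
  have h1 : M.map K.subtype = ⊥ := by
    refine hS.eq_bot_of_normal_normal hK (Subgroup.map_subtype_le _) ?_
      (Group.nilpotent_of_mulEquiv (Subgroup.equivMapOfInjective M K.subtype K.subtype_injective))
    rw [Subgroup.subgroupOf, Subgroup.comap_map_eq_self_of_injective K.subtype_injective]
    exact hM.normal
  rw [Subgroup.map_eq_bot_iff_of_injective _ K.subtype_injective] at h1
  exact hM.ne_bot h1

omit hS in
theorem ne_one_of_two {t : G} (ht : orderOf t = 2) : t ≠ 1 := fun e => by
  rw [e, orderOf_one] at ht; omega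

omit hS in
/-- Elements centralising an involution normalise its component; outside it they are involutions. -/
theorem centralizer_facts {t c : G} (ht : orderOf t = 2) (hc : Commute c t) :
    c ∈ Subgroup.normalizer (P.comp t : Set G) ∧ (c ∉ P.comp t → orderOf c = 2) := by
  refine ⟨P.mem_normalizer_of_commute (ne_one_of_two ht) (P.mem_comp t (ne_one_of_two ht))
    (ne_one_of_two ht) hc, fun h => ?_⟩
  have hc1 : c ≠ 1 := fun (e : c = 1) => h (e.symm ▸ one_mem _)
  obtain ⟨-, ho⟩ := P.eq_orderOf (ne_one_of_two ht) hc1 hc.symm h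
  rw [ho, ht]

omit hS in
theorem sq_eq_one_of_outside {t c : G} (ht : orderOf t = 2) (hc : Commute c t)
    (h : c ∉ P.comp t) : c * c = 1 := by
  rw [← pow_two, ← (centralizer_facts ht hc).2 h, pow_orderOf_eq_one]

omit hS in
theorem inverts {t y a : G} (ht : orderOf t = 2) (hyt : Commute y t) (hy : y ∉ P.comp t)
    (hat : Commute a t) (ha : a ∈ P.comp t) : y * a * y⁻¹ = a⁻¹ := by
  have hya : y * a ∉ P.comp t := fun h => hy (by simpa using mul_mem h (inv_mem ha))
  have h1 := sq_eq_one_of_outside ht (hyt.mul_left hat) hya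
  have h2 := sq_eq_one_of_outside ht hyt hy
  rw [inv_eq_of_mul_eq_one_right h2]
  exact eq_inv_of_mul_eq_one_left (by rw [← h1]; group)

theorem isSolvable_centralizer {t : G} (ht : orderOf t = 2) :
    Group.IsSolvable (Subgroup.centralizer ({t} : Set G)) := by
  set C := Subgroup.centralizer ({t} : Set G) with hC
  set X := P.comp t with hX
  have hcomm : ∀ c : C, Commute (c : G) t := fun c => Subgroup.mem_centralizer_singleton_iff.mp c.2
  haveI : (X.subgroupOf C).Normal := ⟨fun a ha g => Subgroup.mem_subgroupOf.mpr <| by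
    have h1 := (centralizer_facts (P := P) ht (hcomm g)).1
    rw [Subgroup.coe_mul, Subgroup.coe_mul, Subgroup.coe_inv]
    exact (Subgroup.mem_normalizer_iff.mp h1 _).mp (Subgroup.mem_subgroupOf.mp ha)⟩
  haveI : Group.IsNilpotent X := hS.isNilpotent (ne_one_of_two ht)
  haveI : Group.IsSolvable (X.subgroupOf C) := Group.isSolvable_of_isSolvable_injective
    (f := (C.subtype.comp (X.subgroupOf C).subtype).codRestrict X fun x => Subgroup.mem_subgroupOf.mp x.2)
    fun a b h => Subtype.ext (Subtype.ext (congrArg (Subtype.val : X → G) h))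
  haveI : Group.IsSolvable (C ⧸ X.subgroupOf C) := Group.isSolvable_of_comm fun a b => by
    have hsq : ∀ c : C ⧸ X.subgroupOf C, c * c = 1 := fun c => by
      obtain ⟨c, rfl⟩ := QuotientGroup.mk_surjective c
      rw [← QuotientGroup.mk_mul, QuotientGroup.eq_one_iff, Subgroup.mem_subgroupOf, Subgroup.coe_mul]
      by_cases h : (c : G) ∈ X
      · exact mul_mem h h
      · rw [sq_eq_one_of_outside ht (hcomm c) h]; exact one_mem _
    calc a * b = (a * b)⁻¹ := (inv_eq_of_mul_eq_one_right (hsq _)).symm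
      _ = b * a := by
        rw [mul_inv_rev, inv_eq_of_mul_eq_one_right (hsq a), inv_eq_of_mul_eq_one_right (hsq b)]
  exact Group.isSolvable_of_ker_le_range (X.subgroupOf C).subtype
    (QuotientGroup.mk' (X.subgroupOf C)) (by simp)

omit hS in
/-- The three types of involution centralisers. -/
theorem centralizer_cases {t : G} (ht : orderOf t = 2) :
    (∀ c, Commute c t → c ∈ P.comp t) ∨ (∀ c, Commute c t → c * c = 1) ∨
    ∃ y a, Commute y t ∧ y ∉ P.comp t ∧ Commute a t ∧ a ∈ P.comp t ∧ a * a ≠ 1 ∧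
      ∀ c, Commute c t → c ∉ P.comp t → y * c ∈ P.comp t := by
  by_cases h1 : ∀ c, Commute c t → c ∈ P.comp t
  · exact Or.inl h1
  by_cases h2 : ∀ c, Commute c t → c * c = 1
  · exact Or.inr (Or.inl h2)
  push Not at h1 h2
  obtain ⟨y, hyt, hy⟩ := h1
  obtain ⟨a, hat, ha2⟩ := h2
  have ha : a ∈ P.comp t := by
    by_contra h
    exact ha2 (sq_eq_one_of_outside ht hat h)
  refine Or.inr (Or.inr ⟨y, a, hyt, hy, hat, ha, ha2, fun c hct hc => ?_⟩)
  by_contra hyc
  have e1 := inverts ht hyt hy hat ha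
  have e2 := inverts ht hct hc hat ha
  have e3 := inverts ht (hyt.mul_left hct) hyc hat ha
  rw [show y * c * a * (y * c)⁻¹ = y * (c * a * c⁻¹) * y⁻¹ by group, e2,
    show y * a⁻¹ * y⁻¹ = (y * a * y⁻¹)⁻¹ by group, e1, inv_inv] at e3
  exact ha2 (by nth_rewrite 1 [e3]; exact inv_mul_cancel a)

end Semi

end CfsgLib.Partition8
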